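import Groth.Agent.Proj83.AffineVanish
import Groth.Agent.CycLib.DivMap
import Groth.Agent.CycLib.RatSum

/-!
Lifting a rational triviality from a preimmersed subscheme.
-/

set_option autoImplicit false
set_option linter.style.haveILetI false

universe u

open CategoryTheory AlgebraicGeometry TopologicalSpace Opposite

namespace Groth.Agent.Proj83

open Groth.Agent H23

noncomputable section

variable {W X : Scheme.{u}}

/-- The point value of a cycle outside `range j` left after lifting. -/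
theorem exists_remainder [IsLocallyNoetherian X] [IsLocallyNoetherian W] [CompactSpace W] {δ : X → ℤ}
    (hd : Cyc.IsDimFun X δ) (j : W ⟶ X) [IsPreimmersion j] {w : W}
    (h : RatOn.ZeroOn (fun z => δ (j z)) (δ (j w)) Set.univ (pt w)) :
    ∃ R : AlgebraicCycle X ℤ, R ∈ Cyc.Zk X δ (δ (j w)) ∧
      RatOn.ZeroOn δ (δ (j w)) (Set.range j) (fun q => pt (j w) q - R q) ∧
      ∀ q, R q ≠ 0 → q ∉ Set.range j ∧ ∃ ξ ∈ Set.range j, ξ ⤳ q := by
  classical
  obtain ⟨ι, ξ, f, h1, h2, -, h4, h5⟩ := h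
  choose g hg using fun i => (CycLib.residueFieldMap_bijective j (ξ i)).2 (f i)
  have hg0 : ∀ i, g i ≠ 0 := fun i e => h2 i (by rw [← hg i, e, map_zero])
  have hfin : Finite ι := by
    choose U hUo hU hUf using h4
    obtain ⟨T, hT⟩ := isCompact_univ.elim_finite_subcover U hUo fun x _ => Set.mem_iUnion.2 ⟨x, hU x⟩
    refine Set.finite_univ_iff.1 ((T.finite_toSet.biUnion fun x _ => hUf x).subset fun i _ => ?_)
    obtain ⟨x, hx, hxi⟩ := Set.mem_iUnion₂.1 (hT (Set.mem_univ (ξ i)))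
    exact Set.mem_biUnion hx ⟨ξ i, subset_closure rfl, hxi⟩
  haveI := Fintype.ofFinite ι
  let R : AlgebraicCycle X ℤ := ptCycle (j w) - ∑ i, CycLib.divCycle hd (j (ξ i)) (g i) (hg0 i)
  have hR : ∀ q, R q = pt (j w) q - ∑ i, Cyc.divFun δ (j (ξ i)) (g i) q := fun q => by
    have hsum : (∑ i, CycLib.divCycle hd (j (ξ i)) (g i) (hg0 i)) q = ∑ i, Cyc.divFun δ (j (ξ i)) (g i) q := by
      let ev : AlgebraicCycle X ℤ →+ ℤ := AddMonoidHom.mk' (fun a => a q) fun a b => by
        rw [Function.locallyFinsuppWithin.coe_add]; rfl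
      exact map_sum ev _ _
    rw [Function.locallyFinsuppWithin.coe_sub, Pi.sub_apply, hsum, coe_ptCycle]
  refine ⟨R, fun q hq => ?_, ?_, fun q hq => ?_⟩
  · rw [hR, pt_ne fun (e : q = j w) => hq (e ▸ rfl), zero_sub, neg_eq_zero]
    refine Finset.sum_eq_zero fun i _ => CycLib.divFun_eq_zero_of_delta δ _ ?_
    have : δ (j (ξ i)) = δ (j w) + 1 := h1 i
    omega
  · refine ⟨ι, fun i => j (ξ i), g, h1, hg0, fun i => ⟨_, rfl⟩, fun x => ⟨Set.univ, isOpen_univ, trivial,
      Set.toFinite _⟩, fun q => ?_⟩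
    show pt (j w) q - R q = _
    rw [hR, finsum_eq_sum_of_fintype]
    ring
  · have hjq : q ∉ Set.range j := by
      rintro ⟨z, rfl⟩
      refine hq ?_
      have hz : ∀ i, Cyc.divFun δ (j (ξ i)) (g i) (j z) = Cyc.divFun (fun z => δ (j z)) (ξ i) (f i) z := fun i => by
        rw [← hg i, CycLib.divFun_preimmersion j 0 (fun z => (add_zero _).symm)]
      rw [hR, Finset.sum_congr rfl fun i _ => hz i, ← finsum_eq_sum_of_fintype, ← h5 z]
      by_cases e : z = w
      · rw [e, pt_self, pt_self, sub_self]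
      · rw [pt_ne e, pt_ne fun e' => e (j.isEmbedding.injective e'), sub_self]
    refine ⟨hjq, ?_⟩
    rw [hR, pt_ne fun (e : q = j w) => hjq ⟨w, e.symm⟩, zero_sub, neg_ne_zero] at hq
    obtain ⟨i, -, hi⟩ := Finset.exists_ne_zero_of_sum_ne_zero hq
    exact ⟨j (ξ i), ⟨_, rfl⟩, specializes_iff_mem_closure.2 (CycLib.mem_closure_of_divFun_ne_zero hi)⟩

end

end Groth.Agent.Proj83
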