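import Groth.Agent.Proj83.Ops
import Groth.Agent.Proj83.AffineVanish

/-!
Cycles resolved by iterated caps of pull-backs, and their locally finite sums.
-/

set_option autoImplicit false
set_option linter.style.haveILetI false

universe u

open CategoryTheory AlgebraicGeometry TopologicalSpace

namespace Groth.Agent.Proj83.Resolve

open Groth.Agent H23 Ops

noncomputable section

variable {X P : Scheme.{u}} {p : P ⟶ X} [Flat p] {L : P.Modules} {δ : X → ℤ} {δP : P → ℤ} {c : ℤ}
  [IsLocallyNoetherian X] [IsLocallyNoetherian P]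
  (hc : FlatShift.HasShift p δP δ c) (hd : Cyc.IsDimFun P δP) (hL : PicF.IsInvertible L)
  (t : ℕ → (ξ : P) → Cyc.secFibre L ξ) (ht : ∀ i ξ, t i ξ ≠ 0) (n : ℕ) (k : ℤ)

/-- `β` is a combination of the operators on cycles supported in `T`, up to divisors over `T`. -/
def Good (T : Set X) (β : P → ℤ) : Prop :=
  ∃ a : Fin (n + 1) → AlgebraicCycle X ℤ, (∀ i : Fin (n + 1), a i ∈ Cyc.Zk X δ (k + ((i : ℕ) : ℤ))) ∧
    (∀ (i : Fin (n + 1)) x, a i x ≠ 0 → x ∈ T) ∧
    RatOn.ZeroOn δP (k + c) (p ⁻¹' T) fun q => β q - ∑ i : Fin (n + 1), op hc hd hL t ht (i : ℕ) (a i) q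

variable {hc hd hL t ht n k}

theorem Good.mono {T T' : Set X} {β : P → ℤ} (h : Good hc hd hL t ht n k T β) (hT : T ⊆ T') :
    Good hc hd hL t ht n k T' β := by
  obtain ⟨a, ha, has, hz⟩ := h
  exact ⟨a, ha, fun i x hx => hT (has i x hx), RatOn.mono hz (Set.preimage_mono hT)⟩

theorem Good.congr_sub {T : Set X} {β β' : P → ℤ} (h : Good hc hd hL t ht n k T β')
    (h' : RatOn.ZeroOn δP (k + c) (p ⁻¹' T) fun q => β q - β' q) : Good hc hd hL t ht n k T β := by
  obtain ⟨a, ha, has, hz⟩ := h
  exact ⟨a, ha, has, RatOn.congr (RatOn.add hd hz h' 1 1) fun q => by ring⟩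

/-- Adding a generator. -/
theorem Good.add_op {T : Set X} {β : P → ℤ} (i₀ : Fin (n + 1)) {b : AlgebraicCycle X ℤ}
    (hb : b ∈ Cyc.Zk X δ (k + ((i₀ : ℕ) : ℤ))) (hbT : ∀ x, b x ≠ 0 → x ∈ T)
    (h : Good hc hd hL t ht n k T fun q => β q - op hc hd hL t ht (i₀ : ℕ) b q) :
    Good hc hd hL t ht n k T β := by
  classical
  obtain ⟨a, ha, has, hz⟩ := h
  refine ⟨a + Pi.single i₀ b, fun i => ?_, fun i x hx => ?_, RatOn.congr hz fun q => ?_⟩
  · by_cases hi : i = i₀
    · subst hi
      rw [Pi.add_apply, Pi.single_eq_same]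
      exact (ChowOps.zk X δ _).add_mem (ha i) hb
    · rw [Pi.add_apply, Pi.single_eq_of_ne hi, add_zero]
      exact ha i
  · by_cases hi : i = i₀
    · subst hi
      rw [Pi.add_apply, Pi.single_eq_same, Function.locallyFinsuppWithin.coe_add, Pi.add_apply] at hx
      by_cases h1 : a i x = 0
      · exact hbT x (by rwa [h1, zero_add] at hx)
      · exact has i x h1
    · rw [Pi.add_apply, Pi.single_eq_of_ne hi, add_zero] at hx
      exact has i x hx
  · have hterm : ∀ i : Fin (n + 1), op hc hd hL t ht (i : ℕ) ((a + Pi.single i₀ b : Fin (n + 1) → AlgebraicCycle X ℤ) i) q =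
        op hc hd hL t ht (i : ℕ) (a i) q + if i = i₀ then op hc hd hL t ht (i₀ : ℕ) b q else 0 := fun i => by
      rw [Pi.add_apply, map_add, Function.locallyFinsuppWithin.coe_add, Pi.add_apply]
      by_cases hi : i = i₀
      · subst hi
        rw [Pi.single_eq_same, if_pos rfl]
      · rw [Pi.single_eq_of_ne hi, if_neg hi, map_zero]
        rfl
    simp only [hterm, Finset.sum_add_distrib, Finset.sum_ite_eq', Finset.mem_univ, if_true]
    ring

/-- A cycle whose points are resolved is resolved. -/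
theorem good_of_points [QuasiCompact p] {T : Set X} (hT : IsClosed T) {β : AlgebraicCycle P ℤ}
    (hsupp : ∀ q, β q ≠ 0 → p q ∈ T)
    (h : ∀ q, β q ≠ 0 → Good hc hd hL t ht n k (closure {p q}) (pt q)) :
    Good hc hd hL t ht n k T ⇑β := by
  classical
  let I : Type u := {q : P // β q ≠ 0}
  choose A hA hAs hAz using fun η : I => h η.1 η.2
  have hfinI : ∀ V : X.Opens, IsAffineOpen V → {η : I | p η.1 ∈ V}.Finite := fun V hV => by
    have hcpt : IsCompact (p ⁻¹' (V : Set X)) := (quasiCompact_iff p).1 inferInstance V V.isOpen hV.isCompact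
    refine ((β.locallyFiniteSupport.finite_inter_support_of_isCompact hcpt).preimage
      Subtype.val_injective.injOn).subset ?_
    intro η hη
    exact ⟨hη, η.2⟩
  have hmemV : ∀ (η : I) (i : Fin (n + 1)) (z : X) (V : X.Opens), z ∈ V → A η i z ≠ 0 → p η.1 ∈ V :=
    fun η i z V hz hne => (specializes_iff_mem_closure.2 (hAs η i z hne)).mem_open V.2 hz
  have hnbhd : ∀ z : X, ∃ V : X.Opens, IsAffineOpen V ∧ z ∈ V := fun z => by
    obtain ⟨V, hV, hzV, -⟩ := exists_isAffineOpen_mem_and_subset (x := z) (U := (⊤ : X.Opens)) trivial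
    exact ⟨V, hV, hzV⟩
  let a : Fin (n + 1) → AlgebraicCycle X ℤ := fun i =>
    { toFun := fun z => ∑ᶠ η : I, β η.1 * A η i z
      supportWithinDomain' := fun _ _ => trivial
      supportLocallyFiniteWithinDomain' := fun z _ => by
        obtain ⟨V, hV, hzV⟩ := hnbhd z
        refine ⟨V, V.2.mem_nhds hzV,
          ((hfinI V hV).biUnion fun η _ =>
            (A η i).locallyFiniteSupport.finite_inter_support_of_isCompact hV.isCompact).subset ?_⟩
        rintro x ⟨hxV, hx⟩
        obtain ⟨η, hη⟩ : ∃ η : I, β η.1 * A η i x ≠ 0 := by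
          by_contra hn
          push Not at hn
          exact hx (finsum_eq_zero_of_forall_eq_zero hn)
        exact Set.mem_biUnion (x := η) (hmemV η i x V hxV (right_ne_zero_of_mul hη))
          ⟨hxV, right_ne_zero_of_mul hη⟩ }
  have hae : ∀ i z, a i z = ∑ᶠ η : I, β η.1 * A η i z := fun _ _ => rfl
  refine ⟨a, fun i z hz => ?_, fun i z hz => ?_, ?_⟩
  · rw [hae]
    exact finsum_eq_zero_of_forall_eq_zero fun η => by rw [hA η i z hz, mul_zero]
  · rw [hae] at hz
    obtain ⟨η, hη⟩ : ∃ η : I, β η.1 * A η i z ≠ 0 := by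
      by_contra hn
      push Not at hn
      exact hz (finsum_eq_zero_of_forall_eq_zero hn)
    exact (closure_minimal (Set.singleton_subset_iff.2 (hsupp _ η.2)) hT) (hAs η i z (right_ne_zero_of_mul hη))
  refine RatOn.congr (RatOn.sum hd (fun η : I => β η.1)
    (fun η q => pt η.1 q - ∑ i : Fin (n + 1), op hc hd hL t ht (i : ℕ) (A η i) q) (fun η => p ⁻¹' closure {p η.1})
    (fun η => Set.preimage_mono (closure_minimal (Set.singleton_subset_iff.2 (hsupp _ η.2)) hT)) hAz
    fun x => ?_) fun q => ?_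
  · obtain ⟨V, hV, hxV⟩ := hnbhd (p x)
    refine ⟨p ⁻¹ᵁ V, (p ⁻¹ᵁ V).2, hxV, (hfinI V hV).subset ?_⟩
    rintro η ⟨⟨w, hw, hwV⟩, -⟩
    exact (specializes_iff_mem_closure.2 hw).mem_open V.2 hwV
  · obtain ⟨V, hV, hqV⟩ := hnbhd (p q)
    let S : Finset I := (hfinI V hV).toFinset
    have hout : ∀ η : I, η ∉ S → ∀ z ∈ V, ∀ i, A η i z = 0 := fun η hη z hz i => by
      by_contra hne
      exact hη ((hfinI V hV).mem_toFinset.2 (hmemV η i z V hz hne))
    have hsupp : (Function.support fun η : I => β η.1 * (pt η.1 q - ∑ i : Fin (n + 1), op hc hd hL t ht (i : ℕ) (A η i) q)) ⊆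
        ↑S := by
      intro η hη
      by_contra hS
      refine right_ne_zero_of_mul hη ?_
      have hqη : q ≠ η.1 := fun e => hS ((hfinI V hV).mem_toFinset.2 (e ▸ hqV : p η.1 ∈ V))
      rw [pt_ne hqη, Finset.sum_eq_zero fun (i : Fin (n + 1)) _ => op_eq_zero hc hd hL t ht (i : ℕ) q
        fun z hz => hout η hS z (hz.mem_open V.2 hqV) i, sub_zero]
    rw [finsum_eq_sum_of_support_subset _ hsupp]
    simp only [mul_sub, Finset.sum_sub_distrib]
    congr 1
    · have e : ∀ η ∈ S, β η.1 * pt η.1 q = if η.1 = q then β q else 0 := fun η _ => by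
        by_cases e : η.1 = q
        · rw [if_pos e, e, pt_self, mul_one]
        · rw [if_neg e, pt_ne fun e' => e e'.symm, mul_zero]
      rw [Finset.sum_congr rfl e]
      by_cases hq : β q = 0
      · rw [hq]
        simp
      · rw [Finset.sum_eq_single (⟨q, hq⟩ : I) (fun η _ hne => if_neg fun e => hne (Subtype.ext e))
          (fun h => absurd ((hfinI V hV).mem_toFinset.2 hqV) h), if_pos rfl]
    · simp only [Finset.mul_sum]
      rw [Finset.sum_comm]
      refine Finset.sum_congr rfl fun i _ => ?_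
      rw [op_congr hc hd hL t ht (a := a i) (a' := ∑ η ∈ S, β η.1 • A η i) (i : ℕ) q fun z hz => ?_]
      · rw [map_sum]
        let ev : AlgebraicCycle P ℤ →+ ℤ := AddMonoidHom.mk' (fun b => b q) fun b b' => by
          rw [Function.locallyFinsuppWithin.coe_add]; rfl
        show ev (∑ η ∈ S, op hc hd hL t ht (i : ℕ) (β η.1 • A η i)) = _
        rw [map_sum]
        refine Finset.sum_congr rfl fun η _ => ?_
        rw [map_zsmul, map_zsmul, smul_eq_mul]
        rfl
      · let ev : AlgebraicCycle X ℤ →+ ℤ := AddMonoidHom.mk' (fun b => b z) fun b b' => by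
          rw [Function.locallyFinsuppWithin.coe_add]; rfl
        show a i z = ev (∑ η ∈ S, β η.1 • A η i)
        rw [map_sum, hae, finsum_eq_sum_of_support_subset (s := S) (fun η : I => β η.1 * A η i z) fun η hη => by_contra fun hS =>
          right_ne_zero_of_mul (Function.mem_support.1 hη) (hout η hS z (hz.mem_open V.2 hqV) i)]
        exact Finset.sum_congr rfl fun η _ => by rw [map_zsmul, smul_eq_mul]; rfl

end

end Groth.Agent.Proj83.Resolve
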