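import Groth.Agent.Proj83.PolyFib
import Groth.Agent.Proj83.Lift
import Groth.Agent.Proj83.Resolve
import Groth.Agent.H23.InvStalk
import Groth.Agent.H23.SecIso
import Groth.Agent.FibDim.RelDim
import Mathlib.AlgebraicGeometry.AffineSpace

/-!
Flat pull-back along a fibration in affine spaces is surjective up to rational equivalence.
-/

set_option autoImplicit false
set_option linter.style.haveILetI false

universe u

open CategoryTheory AlgebraicGeometry TopologicalSpace

namespace Groth.Agent.Proj83.AffineBundle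

open Groth.Agent H23 PolyFib

noncomputable section

variable {X Y : Scheme.{u}} {f : X ⟶ Y} {r : ℕ}

/-- A polynomial chart of `f` around a point. -/
theorem exists_chart (hloc : ∀ y : Y, ∃ U : Y.Opens, y ∈ U ∧
      ∃ e : (↑(f ⁻¹ᵁ U) : Scheme.{u}) ≅ 𝔸(ULift.{u} (Fin r); (↑U : Scheme.{u})),
        e.hom ≫ (𝔸(ULift.{u} (Fin r); (↑U : Scheme.{u})) ↘ (↑U : Scheme.{u})) = f ∣_ U) (y : Y) :
    ∃ (R : CommRingCat.{u}) (h : Spec (CommRingCat.of R) ⟶ Y)
      (ι : Spec (CommRingCat.of (MvPolynomial (Fin r) R)) ⟶ X) (_ : IsOpenImmersion h) (_ : IsOpenImmersion ι)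
      (ζ : Spec (CommRingCat.of R)),
      h ζ = y ∧ ι ≫ f = space R (Fin r) ≫ h ∧ ∀ q, f q ∈ Set.range h → q ∈ Set.range ι := by
  obtain ⟨U, hyU, e, he⟩ := hloc y
  obtain ⟨V, hV, hyV, hVU⟩ := exists_isAffineOpen_mem_and_subset (x := y) (U := U) hyU
  let R := Γ(Y, V)
  have hrange : Set.range hV.fromSpec ⊆ Set.range U.ι := by
    rw [hV.range_fromSpec, Scheme.Opens.range_ι]; exact hVU
  let g0 : Spec R ⟶ (↑U : Scheme.{u}) := IsOpenImmersion.lift U.ι hV.fromSpec hrange
  have hg0 : g0 ≫ U.ι = hV.fromSpec := IsOpenImmersion.lift_fac _ _ _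
  haveI : IsOpenImmersion g0 := by
    haveI : IsOpenImmersion (g0 ≫ U.ι) := hg0.symm ▸ inferInstance
    exact IsOpenImmersion.of_comp g0 U.ι
  let m := AffineSpace.map (ULift.{u} (Fin r)) g0
  have hsq := AffineSpace.isPullback_map (n := ULift.{u} (Fin r)) g0
  haveI : IsOpenImmersion m := MorphismProperty.of_isPullback hsq.flip (inferInstance : IsOpenImmersion g0)
  let ρ := (MvPolynomial.renameEquiv R (Equiv.ulift.{u, 0} (α := Fin r))).toRingEquiv
  let j : Spec (CommRingCat.of (MvPolynomial (Fin r) R)) ≅ Spec (CommRingCat.of (MvPolynomial (ULift.{u} (Fin r)) R)) :=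
    Scheme.Spec.mapIso ρ.toCommRingCatIso.op
  let ι := j.hom ≫ (AffineSpace.SpecIso (ULift.{u} (Fin r)) R).inv ≫ m ≫ e.inv ≫ (f ⁻¹ᵁ U).ι
  haveI : IsOpenImmersion ι := inferInstance
  obtain ⟨ζ, hζ⟩ : y ∈ Set.range hV.fromSpec := hV.range_fromSpec.symm ▸ hyV
  refine ⟨R, hV.fromSpec, ι, inferInstance, inferInstance, ζ, hζ, ?_, fun q hq => ?_⟩
  · have he' : e.inv ≫ (f ∣_ U) = 𝔸(ULift.{u} (Fin r); (↑U : Scheme.{u})) ↘ (↑U : Scheme.{u}) := by
      rw [← he, Iso.inv_hom_id_assoc]
    simp only [ι, Category.assoc]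
    rw [← morphismRestrict_ι, reassoc_of% he', AffineSpace.map_over_assoc, AffineSpace.SpecIso_inv_over_assoc, hg0]
    show Spec.map _ ≫ Spec.map _ ≫ _ = Spec.map _ ≫ _
    rw [← Spec.map_comp_assoc]
    congr 2
    refine CommRingCat.hom_ext (RingHom.ext fun a => ?_)
    exact (MvPolynomial.renameEquiv R (Equiv.ulift.{u, 0} (α := Fin r))).commutes a
  · obtain ⟨z, hz⟩ := hq
    have hqU : q ∈ f ⁻¹ᵁ U := by
      show f q ∈ U
      rw [← hz]
      have h0 := hrange ⟨z, rfl⟩
      rwa [Scheme.Opens.range_ι] at h0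
    obtain ⟨q', hq'⟩ : q ∈ Set.range (f ⁻¹ᵁ U).ι := (Scheme.Opens.range_ι _).symm ▸ hqU
    have hover : (𝔸(ULift.{u} (Fin r); (↑U : Scheme.{u})) ↘ (↑U : Scheme.{u})) (e.hom q') = g0 z := by
      refine U.ι.isOpenEmbedding.injective ?_
      rw [← Scheme.Hom.comp_apply e.hom, he, ← Scheme.Hom.comp_apply, morphismRestrict_ι, Scheme.Hom.comp_apply, hq',
        ← Scheme.Hom.comp_apply g0, hg0]
      exact hz.symm
    obtain ⟨a, ha, -⟩ := Scheme.exists_preimage_of_isPullback hsq (e.hom q') z hover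
    obtain ⟨b, hb⟩ := (AffineSpace.SpecIso (ULift.{u} (Fin r)) R).inv.homeomorph.surjective a
    obtain ⟨c, hc⟩ := j.hom.homeomorph.surjective b
    refine ⟨c, ?_⟩
    have hc' : j.hom c = b := hc
    have hb' : (AffineSpace.SpecIso (ULift.{u} (Fin r)) R).inv b = a := hb
    simp only [ι, Scheme.Hom.comp_apply]
    rw [hc', hb', show m a = e.hom q' from ha, ← Scheme.Hom.comp_apply e.hom e.inv, e.hom_inv_id]
    exact hq'

variable {δX : X → ℤ} {δY : Y → ℤ}

/-- The data of a fibre. -/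
theorem exists_fibre (hd : Cyc.IsDimFun X δX) (hδ : Cyc.DeltaCompat f δX δY)
    (hloc : ∀ y : Y, ∃ U : Y.Opens, y ∈ U ∧
      ∃ e : (↑(f ⁻¹ᵁ U) : Scheme.{u}) ≅ 𝔸(ULift.{u} (Fin r); (↑U : Scheme.{u})),
        e.hom ≫ (𝔸(ULift.{u} (Fin r); (↑U : Scheme.{u})) ↘ (↑U : Scheme.{u})) = f ∣_ U) (y : Y) :
    ∃ (K : Type u) (_ : Field K) (j : Spec (CommRingCat.of (MvPolynomial (Fin r) K)) ⟶ X) (_ : IsPreimmersion j),
      Set.range j = f ⁻¹' {y} ∧ Low (fun w => δX (j w)) ∧ δX (j (affineGen K (Fin r))) = δY y + r ∧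
      (IsLocalRing.maximalIdeal (Y.presheaf.stalk (f (j (affineGen K (Fin r)))))).map
          (f.stalkMap (j (affineGen K (Fin r)))).hom =
        IsLocalRing.maximalIdeal (X.presheaf.stalk (j (affineGen K (Fin r)))) := by
  obtain ⟨R, h, ι, hh, hι, ζ, hζ, hcomm, hrange⟩ := exists_chart hloc y
  haveI := isPreimmersion_fib (Fin r) ζ
  haveI := isPreimmersion_evr ζ
  have hsp : ∀ w, f (ι w) = h (space R (Fin r) w) := fun w => by
    rw [← Scheme.Hom.comp_apply, hcomm, Scheme.Hom.comp_apply]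
  have hover : ∀ w, f ((fib (Fin r) ζ ≫ ι) w) = y := fun w => by
    rw [Scheme.Hom.comp_apply, hsp, space_fib, hζ]
  have hcompat : Cyc.DeltaCompat (Spec.map (CommRingCat.ofHom (MvPolynomial.C :
      (Spec (CommRingCat.of R)).residueField ζ →+* MvPolynomial (Fin r) ((Spec (CommRingCat.of R)).residueField ζ))))
      (fun w => δX ((fib (Fin r) ζ ≫ ι) w)) (fun _ => δY y) := by
    intro w
    obtain ⟨k, hk, hδk⟩ := hδ ((fib (Fin r) ζ ≫ ι) w)
    refine ⟨k, (FibDim.rdeg_congr_preimmersion (a := fib (Fin r) ζ ≫ ι)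
      (b := Spec.map (CommRingCat.ofHom (PolyPts.evr ζ)) ≫ h) (f := f) ?_ w).trans hk, ?_⟩
    · rw [Category.assoc, hcomm, reassoc_of% fib_space (Fin r) ζ]
    · show δX ((fib (Fin r) ζ ≫ ι) w) = δY y + k
      rw [hδk, hover]
  refine ⟨(Spec (CommRingCat.of R)).residueField ζ, inferInstance, fib (Fin r) ζ ≫ ι, inferInstance, ?_,
    low_mvPolynomial _ _ _ _ hcompat, ?_, ?_⟩
  · refine Set.Subset.antisymm ?_ fun q hq => ?_
    · rintro _ ⟨w, rfl⟩
      exact hover w
    · obtain ⟨w, rfl⟩ := hrange q ⟨ζ, hζ.trans (Eq.symm hq)⟩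
      obtain ⟨v, rfl⟩ := mem_range_fib (Fin r) ζ (q := w) (h.isOpenEmbedding.injective (by
        rw [← hsp, hζ]; exact hq))
      exact ⟨v, rfl⟩
  · have := delta_affineGen hcompat
    simpa using this
  · let w := fib (Fin r) ζ (affineGen ((Spec (CommRingCat.of R)).residueField ζ) (Fin r))
    show (IsLocalRing.maximalIdeal (Y.presheaf.stalk (f (ι w)))).map (f.stalkMap (ι w)).hom = _
    have hbij := ConcreteCategory.bijective_of_isIso (ι.stalkMap w)
    refine ((Ideal.comap_map_of_bijective _ hbij).symm.trans ?_).trans (Ideal.comap_map_of_bijective _ hbij)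
    refine congrArg (Ideal.comap (ι.stalkMap w).hom) ?_
    have hmax : (IsLocalRing.maximalIdeal (X.presheaf.stalk (ι w))).map (ι.stalkMap w).hom =
        IsLocalRing.maximalIdeal _ :=
      IsLocalRing.map_maximalIdeal_of_surjective _ hbij.2
    refine Eq.trans ?_ hmax.symm
    show ((IsLocalRing.maximalIdeal (Y.presheaf.stalk (f (ι w)))).map (f.stalkMap (ι w)).hom).map
      (ι.stalkMap w).hom = _
    rw [Ideal.map_map, ← CommRingCat.hom_comp, ← Scheme.Hom.stalkMap_comp]
    have key : ∀ g : Spec (CommRingCat.of (MvPolynomial (Fin r) R)) ⟶ Y, space R (Fin r) ≫ h = g →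
        (IsLocalRing.maximalIdeal (Y.presheaf.stalk (g w))).map (g.stalkMap w).hom =
          IsLocalRing.maximalIdeal ((Spec (CommRingCat.of (MvPolynomial (Fin r) R))).presheaf.stalk w) := by
      rintro _ rfl
      rw [Scheme.Hom.stalkMap_comp]
      change Ideal.map ((((space R (Fin r)).stalkMap w).hom).comp (h.stalkMap (space R (Fin r) w)).hom)
        (IsLocalRing.maximalIdeal (Y.presheaf.stalk (h (space R (Fin r) w)))) = _
      rw [← Ideal.map_map]
      have h1 : (IsLocalRing.maximalIdeal (Y.presheaf.stalk (h (space R (Fin r) w)))).map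
          (h.stalkMap (space R (Fin r) w)).hom = IsLocalRing.maximalIdeal _ :=
        IsLocalRing.map_maximalIdeal_of_surjective _
          (ConcreteCategory.bijective_of_isIso (h.stalkMap (space R (Fin r) w))).2
      rw [h1]
      exact map_maximalIdeal_fib (Fin r) ζ
    exact key _ hcomm.symm

variable [IsLocallyNoetherian X] [IsLocallyNoetherian Y] [Flat f] [QuasiCompact f]

open Resolve in
/-- Surjectivity of the pull-back. -/
theorem exists_pull (hdX : Cyc.IsDimFun X δX) (hdY : Cyc.IsDimFun Y δY) (hδ : Cyc.DeltaCompat f δX δY)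
    (hloc : ∀ y : Y, ∃ U : Y.Opens, y ∈ U ∧
      ∃ e : (↑(f ⁻¹ᵁ U) : Scheme.{u}) ≅ 𝔸(ULift.{u} (Fin r); (↑U : Scheme.{u})),
        e.hom ≫ (𝔸(ULift.{u} (Fin r); (↑U : Scheme.{u})) ↘ (↑U : Scheme.{u})) = f ∣_ U) (k : ℤ)
    (β : AlgebraicCycle X ℤ) (hβ : β ∈ Cyc.Zk X δX (k + r)) :
    ∃ (α : AlgebraicCycle Y ℤ) (β' : AlgebraicCycle X ℤ), α ∈ Cyc.Zk Y δY k ∧
      ⇑β' = Cyc.pullFun f δX δY r ⇑α ∧ Cyc.RatEquiv δX (k + r) β β' := by
  classical
  choose K hK j hj hrange hlow hgenδ hgenm using exists_fibre hdX hδ hloc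
  letI : ∀ y, Field (K y) := hK
  haveI : ∀ y, IsPreimmersion (j y) := hj
  let η : Y → X := fun y => j y (affineGen (K y) (Fin r))
  have hη : ∀ y, f (η y) = y := fun y => (hrange y).le ⟨_, rfl⟩
  have hspec : ∀ x : X, η (f x) ⤳ x := fun x => by
    obtain ⟨w, hw⟩ := (hrange (f x)).ge (rfl : f x = f x)
    conv_rhs => rw [← hw]
    exact (affineGen_specializes w).map (j (f x)).continuous
  have hle : ∀ x : X, δX x ≤ δY (f x) + r := fun x =>
    (CycLib.delta_le hdX (hspec x)).trans (hgenδ (f x)).le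
  have hc : FlatShift.HasShift f δX δY (r : ℤ) := fun x hx => by
    have := hgenδ (f x)
    rwa [show j (f x) (affineGen _ _) = x from hx (η (f x)) (hη (f x)) (hspec x)] at this
  have hO : PicF.IsInvertible (Coh.structureModule X) := InvX.isInvertible_structureModule
  obtain ⟨v, hv⟩ := RatSec.exists_sections hO
  suffices H : ∀ (D : ℕ) (q : X), δX q = k + r → δY (f q) < k + D →
      Good hc hdX hO (fun _ => v) (fun _ => hv) 0 k (closure {f q}) (pt q) by
    obtain ⟨a, ha, -, hz⟩ : Good hc hdX hO (fun _ => v) (fun _ => hv) 0 k Set.univ ⇑β :=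
      good_of_points isClosed_univ (fun _ _ => trivial) fun q hq =>
        H ((δY (f q) - k).toNat + 1) q (by_contra fun h => hq (hβ q h)) (by omega)
    refine ⟨a 0, FlatClass.pullCycle hc hdX (a 0), by simpa using ha 0, rfl, ?_⟩
    exact RatOn.ratEquiv (RatOn.congr hz fun x => by
      show β x - _ = β x - _
      rw [Fin.sum_univ_one]
      rfl)
  intro D
  induction D with
  | zero => intro q hq hlt; have := hle q; omega
  | succ D ih =>
    intro q hq hlt
    by_cases hqη : q = η (f q)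
    · have hδy : δY (f q) = k := by
        have := hgenδ (f q)
        rw [show j (f q) (affineGen _ _) = q from hqη.symm] at this
        omega
      have hb : ptCycle (f q) ∈ Cyc.Zk Y δY (k + (((0 : Fin 1) : ℕ) : ℤ)) := by
        simpa [hδy] using ptCycle_mem δY (f q)
      refine Good.add_op 0 hb (fun x hx => ?_) ⟨0, fun i => (ChowOps.zk Y δY _).zero_mem,
        fun i x hx => absurd rfl hx, RatOn.congr (RatOn.zero _) fun x => ?_⟩
      · obtain rfl : x = f q := by_contra fun e => hx (pt_ne e)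
        exact subset_closure rfl
      · simp only [Pi.zero_apply, map_zero]
        rw [Fin.sum_univ_one]
        show pt q x - Cyc.pullFun f δX δY r (pt (f q)) x - 0 = 0
        rw [sub_zero, sub_eq_zero]
        by_cases hx : x = q
        · subst hx
          rw [pt_self, Cyc.pullFun, if_pos (by omega), pt_self]
          have hm := hgenm (f x)
          rw [show j (f x) (affineGen _ _) = x from hqη.symm] at hm
          rw [hm]
          haveI : IsSimpleModule (X.presheaf.stalk x)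
              (X.presheaf.stalk x ⧸ IsLocalRing.maximalIdeal (X.presheaf.stalk x)) :=
            isSimpleModule_iff_isCoatom.2 (Ideal.IsMaximal.out (I := IsLocalRing.maximalIdeal _))
          rw [Module.length_eq_one]
          simp
        · rw [pt_ne hx, Cyc.pullFun]
          split_ifs with h
          · rw [pt_ne fun e => hx ?_, zero_mul]
            have h1 : η (f x) ⤳ x := hspec x
            have h2 := CycLib.eq_of_delta_le hdX h1 ((hgenδ (f x)).le.trans h.ge)
            rw [← h2, e]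
            exact hqη.symm
          · rfl
    · obtain ⟨w, hw⟩ := (hrange (f q)).ge (rfl : f q = f q)
      have hne : affineGen (K (f q)) (Fin r) ≠ w := fun e => hqη (hw.symm.trans (congrArg (j (f q)) e.symm))
      have hl := hlow (f q) w ⟨_, affineGen_specializes w, hne⟩
      obtain ⟨R, hRmem, hRz, hRs⟩ := exists_remainder hdX (j (f q)) (w := w) hl
      rw [hw, hq] at hRmem
      rw [hw, hq] at hRz
      have hsp : ∀ x, R x ≠ 0 → f q ⤳ f x ∧ f x ≠ f q := fun x hx => by
        obtain ⟨hxr, ξ, hξ, hξx⟩ := hRs x hx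
        have h1 : f ξ = f q := (hrange (f q)).le hξ
        exact ⟨h1 ▸ hξx.map f.continuous, fun e => hxr ((hrange (f q)).ge e)⟩
      refine Good.congr_sub (β' := ⇑R) ?_ (RatOn.mono hRz fun ξ hξ => ?_)
      swap
      · show f ξ ∈ closure {f q}
        rw [show f ξ = f q from (hrange (f q)).le hξ]
        exact subset_closure rfl
      exact good_of_points isClosed_closure (fun x hx => specializes_iff_mem_closure.1 (hsp x hx).1) fun x hx =>
        ih x (by_contra fun h => hx (hRmem x h))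
          (by have := (hdY _ _ (hsp x hx).1 (hsp x hx).2.symm).1; omega)

end

end Groth.Agent.Proj83.AffineBundle
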