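import Groth.Agent.Proj83.Kill
import Groth.Agent.H23.RatSec

/-!
A trivialisation of a projective bundle over an affine open of the base, and the linear strata of its fibres.
-/

set_option autoImplicit false
set_option linter.style.haveILetI false

universe u

open CategoryTheory AlgebraicGeometry TopologicalSpace Opposite

namespace Groth.Agent.Proj83

open Groth.Agent.AModX
open MvPolynomial (C)

noncomputable section

variable {X P : Scheme.{u}}

/-- Coordinates on a projective bundle over an affine open of the base: the standard charts with their coordinate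
rings, and sections of `O(1)` with `x_i = T_i x_m` on the `m`-th chart. -/
structure Chart (p : P ⟶ X) (O : P.Modules) (n : ℕ) where
  U : X.Opens
  hU : IsAffineOpen U
  V : Fin (n + 1) → P.Opens
  hV : ∀ m, IsAffineOpen (V m)
  le : ∀ m, V m ≤ p ⁻¹ᵁ U
  coord : ∀ m, MvPolynomial (CIdx n m) Γ(X, U) ≃+* Γ(P, V m)
  coord_C : ∀ m r, coord m (C r) = (p.appLE U (V m) (le m)).hom r
  x : Fin (n + 1) → Γ(O, p ⁻¹ᵁ U)
  frame : ∀ m, InvX.IsFrame (res O (le m) (x m))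
  x_eq : ∀ m i, res O (le m) (x i) = coord m (coordT _ m i) • res O (le m) (x m)
  basicOpen_le : ∀ m m', P.basicOpen (coord m' (coordT _ m' m)) ≤ V m
  cover : ∀ q, p q ∈ U → ∃ m, q ∈ V m

variable {p : P ⟶ X} {O : P.Modules} {n : ℕ}

namespace Chart

variable (C' : Chart p O n)

/-- Evaluation of the base functions at a point. -/
abbrev bev (y : X) (hy : y ∈ C'.U) : Γ(X, C'.U) →+* X.residueField y := (X.evaluation C'.U y hy).hom

theorem bev_clear (y : X) (hy : y ∈ C'.U) (c : X.residueField y) :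
    ∃ a s : Γ(X, C'.U), C'.bev y hy s ≠ 0 ∧ c * C'.bev y hy s = C'.bev y hy a := by
  obtain ⟨z, rfl⟩ := X.residue_surjective y c
  letI := (X.presheaf.germ C'.U y hy).hom.toAlgebra
  haveI : IsLocalization.AtPrime (X.presheaf.stalk y) (C'.hU.primeIdealOf ⟨y, hy⟩).asIdeal :=
    C'.hU.isLocalization_stalk ⟨y, hy⟩
  obtain ⟨⟨a, s⟩, h⟩ := IsLocalization.surj (C'.hU.primeIdealOf ⟨y, hy⟩).asIdeal.primeCompl z
  refine ⟨a, s.1, ?_, ?_⟩
  · exact ((IsLocalization.map_units (X.presheaf.stalk y) s).map (X.residue y).hom).ne_zero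
  · show (X.residue y).hom z * (X.residue y).hom (algebraMap Γ(X, C'.U) (X.presheaf.stalk y) s.1) = _
    rw [← map_mul, h]
    rfl

/-- The coordinate functions in the local ring. -/
def cev (m : Fin (n + 1)) (q : P) (hq : q ∈ C'.V m) :
    MvPolynomial (CIdx n m) Γ(X, C'.U) →+* P.presheaf.stalk q :=
  (P.presheaf.germ (C'.V m) q hq).hom.comp (C'.coord m).toRingHom

/-- The prime of a point in a chart. -/
def pr (m : Fin (n + 1)) (q : P) (hq : q ∈ C'.V m) : Ideal (MvPolynomial (CIdx n m) Γ(X, C'.U)) :=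
  (IsLocalRing.maximalIdeal (P.presheaf.stalk q)).comap (C'.cev m q hq)

instance (m : Fin (n + 1)) (q : P) (hq : q ∈ C'.V m) : (C'.pr m q hq).IsPrime := Ideal.comap_isPrime _ _

theorem mem_pr {m : Fin (n + 1)} {q : P} {hq : q ∈ C'.V m} {a : MvPolynomial (CIdx n m) Γ(X, C'.U)} :
    a ∈ C'.pr m q hq ↔ ¬ IsUnit (C'.cev m q hq a) := by
  rw [pr, Ideal.mem_comap, IsLocalRing.mem_maximalIdeal, mem_nonunits_iff]

theorem pr_eq (m : Fin (n + 1)) (q : P) (hq : q ∈ C'.V m) :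
    C'.pr m q hq = ((C'.hV m).primeIdealOf ⟨q, hq⟩).asIdeal.comap (C'.coord m).toRingHom := by
  rw [IsAffineOpen.primeIdealOf_eq_map_closedPoint]
  rfl

theorem pr_injective {m : Fin (n + 1)} {q q' : P} (hq : q ∈ C'.V m) (hq' : q' ∈ C'.V m)
    (h : C'.pr m q hq = C'.pr m q' hq') : q = q' := by
  rw [pr_eq, pr_eq] at h
  have h' : (C'.hV m).primeIdealOf ⟨q, hq⟩ = (C'.hV m).primeIdealOf ⟨q', hq'⟩ :=
    PrimeSpectrum.ext (Ideal.comap_injective_of_surjective _ (C'.coord m).surjective h)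
  exact ((C'.hV m).fromSpec_primeIdealOf ⟨q, hq⟩).symm.trans
    ((congrArg (C'.hV m).fromSpec h').trans ((C'.hV m).fromSpec_primeIdealOf ⟨q', hq'⟩))

theorem exists_pr_eq (m : Fin (n + 1)) (Q : Ideal (MvPolynomial (CIdx n m) Γ(X, C'.U))) [Q.IsPrime] :
    ∃ (q : P) (hq : q ∈ C'.V m), C'.pr m q hq = Q := by
  let Q' : PrimeSpectrum Γ(P, C'.V m) := ⟨Q.comap (C'.coord m).symm.toRingHom, Ideal.comap_isPrime _ _⟩
  have hmem : (C'.hV m).fromSpec Q' ∈ C'.V m := (C'.hV m).range_fromSpec.subset ⟨Q', rfl⟩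
  refine ⟨_, hmem, ?_⟩
  have : (C'.hV m).primeIdealOf ⟨_, hmem⟩ = Q' :=
    (C'.hV m).fromSpec.isOpenEmbedding.injective ((C'.hV m).fromSpec_primeIdealOf ⟨_, hmem⟩)
  rw [pr_eq, this]
  ext a
  simp [Q']

theorem specializes_of_le {m : Fin (n + 1)} {ξ q : P} (hξ : ξ ∈ C'.V m) (hq : q ∈ C'.V m)
    (h : C'.pr m ξ hξ ≤ C'.pr m q hq) : ξ ⤳ q := by
  have key : (C'.hV m).primeIdealOf ⟨ξ, hξ⟩ ⤳ (C'.hV m).primeIdealOf ⟨q, hq⟩ := ?_
  · have h1 := key.map (C'.hV m).fromSpec.continuous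
    erw [(C'.hV m).fromSpec_primeIdealOf ⟨ξ, hξ⟩, (C'.hV m).fromSpec_primeIdealOf ⟨q, hq⟩] at h1
    exact h1
  refine (PrimeSpectrum.le_iff_specializes _ _).1 ?_
  intro a ha
  rw [pr_eq, pr_eq] at h
  have e : (C'.coord m).toRingHom ((C'.coord m).symm a) = a := (C'.coord m).apply_symm_apply a
  have := h (Ideal.mem_comap.2 (e.symm ▸ ha))
  rw [Ideal.mem_comap, e] at this
  exact this

theorem stalkSpecializes_cev {m : Fin (n + 1)} {ξ q : P} (h : ξ ⤳ q) (hq : q ∈ C'.V m)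
    (a : MvPolynomial (CIdx n m) Γ(X, C'.U)) :
    P.presheaf.stalkSpecializes h (C'.cev m q hq a) =
      C'.cev m ξ (h.mem_open (C'.V m).2 hq) a := by
  exact TopCat.Presheaf.germ_stalkSpecializes_apply P.presheaf hq h _

theorem pr_le_of_specializes {m : Fin (n + 1)} {ξ q : P} (h : ξ ⤳ q) (hq : q ∈ C'.V m) :
    C'.pr m ξ (h.mem_open (C'.V m).2 hq) ≤ C'.pr m q hq := fun a ha => by
  rw [mem_pr] at ha ⊢
  exact fun hu => ha (C'.stalkSpecializes_cev h hq a ▸ hu.map (P.presheaf.stalkSpecializes h).hom)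

theorem cev_C {m : Fin (n + 1)} {q : P} (hq : q ∈ C'.V m) (r : Γ(X, C'.U)) :
    C'.cev m q hq (C r) = p.stalkMap q (X.presheaf.germ C'.U (p q) (C'.le m hq) r) := by
  show P.presheaf.germ (C'.V m) q hq (C'.coord m (C r)) = _
  rw [C'.coord_C]
  exact (congrArg (P.presheaf.germ (C'.V m) q hq) rfl).trans ((P.presheaf.germ_res_apply (homOfLE (C'.le m)) q hq _).trans
    (Scheme.Hom.germ_stalkMap_apply p C'.U q (C'.le m hq) r).symm)

theorem C_mem_pr {m : Fin (n + 1)} {q : P} (hq : q ∈ C'.V m) (r : Γ(X, C'.U)) :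
    C r ∈ C'.pr m q hq ↔ C'.bev (p q) (C'.le m hq) r = 0 := by
  rw [mem_pr, cev_C, isUnit_map_iff]
  show _ ↔ X.residue (p q) _ = 0
  exact (mem_nonunits_iff.symm.trans (IsLocalRing.mem_maximalIdeal _).symm).trans
    (IsLocalRing.residue_eq_zero_iff _).symm

theorem apply_eq_of_C_mem {m : Fin (n + 1)} {q : P} (hq : q ∈ C'.V m) {y : X} (hy : y ∈ C'.U)
    (h : ∀ r, C r ∈ C'.pr m q hq ↔ C'.bev y hy r = 0) : p q = y := by
  have key : ∀ (z : X) (hz : z ∈ C'.U), (C'.hU.primeIdealOf ⟨z, hz⟩).asIdeal = RingHom.ker (C'.bev z hz) := by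
    intro z hz
    rw [IsAffineOpen.primeIdealOf_eq_map_closedPoint]
    ext r
    exact (IsLocalRing.residue_eq_zero_iff _).symm
  have h' : C'.hU.primeIdealOf ⟨p q, C'.le m hq⟩ = C'.hU.primeIdealOf ⟨y, hy⟩ := by
    refine PrimeSpectrum.ext ((key (p q) (C'.le m hq)).trans (Eq.trans ?_ (key y hy).symm))
    ext r
    exact ((C'.C_mem_pr hq r).symm.trans (h r))
  exact (C'.hU.fromSpec_primeIdealOf ⟨p q, C'.le m hq⟩).symm.trans
    ((congrArg C'.hU.fromSpec h').trans (C'.hU.fromSpec_primeIdealOf ⟨y, hy⟩))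

/-- The value of the `i`-th coordinate section at a point over `U`. -/
abbrev xs (i : Fin (n + 1)) (q : P) (hq : p q ∈ C'.U) : Cyc.secFibre O q :=
  H23.RatSec.cls O q (O.presheaf.germ (p ⁻¹ᵁ C'.U) q hq (C'.x i))

theorem germ_x {m : Fin (n + 1)} {q : P} (hq : q ∈ C'.V m) (i : Fin (n + 1)) :
    O.presheaf.germ (p ⁻¹ᵁ C'.U) q (C'.le m hq) (C'.x i) =
      C'.cev m q hq (coordT _ m i) • O.presheaf.germ (p ⁻¹ᵁ C'.U) q (C'.le m hq) (C'.x m) := by
  have h := congrArg (O.presheaf.germ (C'.V m) q hq).hom (C'.x_eq m i)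
  erw [QCoh.germ_smul' O hq] at h
  rw [← O.presheaf.germ_res_apply (homOfLE (C'.le m)) q hq (C'.x i),
    ← O.presheaf.germ_res_apply (homOfLE (C'.le m)) q hq (C'.x m)]
  exact h

theorem isGen_x {m : Fin (n + 1)} {q : P} (hq : q ∈ C'.V m) :
    H23.RatSec.IsGen (O.presheaf.germ (p ⁻¹ᵁ C'.U) q (C'.le m hq) (C'.x m)) := by
  rw [← O.presheaf.germ_res_apply (homOfLE (C'.le m)) q hq (C'.x m)]
  exact H23.RatSec.isGen_germ (C'.frame m) q hq

theorem xs_eq_zero_iff {m : Fin (n + 1)} {q : P} (hq : q ∈ C'.V m) (i : Fin (n + 1)) :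
    C'.xs i q (C'.le m hq) = 0 ↔ coordT _ m i ∈ C'.pr m q hq := by
  show H23.RatSec.cls O q (O.presheaf.germ (p ⁻¹ᵁ C'.U) q (C'.le m hq) (C'.x i)) = 0 ↔ _
  rw [C'.germ_x hq i, H23.RatSec.cls_smul, pr, Ideal.mem_comap, ← IsLocalRing.residue_eq_zero_iff]
  exact not_iff_not.1 (H23.RatSec.residue_ne_zero (C'.isGen_x hq)).symm

theorem xs_self_ne_zero {m : Fin (n + 1)} {q : P} (hq : q ∈ C'.V m) : C'.xs m q (C'.le m hq) ≠ 0 := by
  rw [Ne, C'.xs_eq_zero_iff hq, coordT_self]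
  exact fun h => (inferInstance : (C'.pr m q hq).IsPrime).ne_top ((Ideal.eq_top_iff_one _).2 h)

theorem mem_V {m : Fin (n + 1)} {q : P} {hq : p q ∈ C'.U} (h : C'.xs m q hq ≠ 0) : q ∈ C'.V m := by
  obtain ⟨m', hm'⟩ := C'.cover q hq
  rw [Ne, C'.xs_eq_zero_iff hm', mem_pr, not_not] at h
  exact C'.basicOpen_le m m' ((P.mem_basicOpen _ q hm').2 h)

/-- The points over `y` where the first `i` coordinates vanish. -/
def F (y : X) (i : ℕ) : Set P :=
  {q | p q = y ∧ ∀ (j : Fin (n + 1)) (hq : p q ∈ C'.U), (j : ℕ) < i → C'.xs j q hq = 0}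

variable {C'} {y : X} (hy : y ∈ C'.U)

theorem ker_le_pr {i : ℕ} {m : Fin (n + 1)} (hm : i ≤ (m : ℕ)) {q : P} (hq : q ∈ C'.V m) (hF : q ∈ C'.F y i) :
    RingHom.ker (killHom (C'.bev y hy) i m) ≤ C'.pr m q hq := by
  obtain ⟨rfl, hF⟩ := hF
  rw [ker_killHom _ hm, sup_le_iff, Ideal.map_le_iff_le_comap, Ideal.span_le]
  refine ⟨fun r hr => (C'.C_mem_pr hq r).2 hr, ?_⟩
  rintro _ ⟨j, hj, rfl⟩
  exact (C'.xs_eq_zero_iff hq j).1 (hF j _ hj)

theorem mem_F_of_pr_eq {i : ℕ} {m : Fin (n + 1)} (hm : i ≤ (m : ℕ)) {q : P} (hq : q ∈ C'.V m)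
    (h : C'.pr m q hq = RingHom.ker (killHom (C'.bev y hy) i m)) : q ∈ C'.F y i := by
  refine ⟨C'.apply_eq_of_C_mem hq hy fun r => ?_, fun j _ hj => ?_⟩
  · rw [h, RingHom.mem_ker, killHom_C, map_eq_zero_iff _ (MvPolynomial.C_injective _ _)]
  · rw [C'.xs_eq_zero_iff hq, h]
    exact killHom_coordT_of_lt _ hm hj

theorem xs_ne_zero_of_pr_eq {i : ℕ} {m : Fin (n + 1)} {q : P} (hq : q ∈ C'.V m)
    (h : C'.pr m q hq = RingHom.ker (killHom (C'.bev y hy) i m)) {j : Fin (n + 1)} (hj : i ≤ (j : ℕ)) :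
    C'.xs j q (C'.le m hq) ≠ 0 := by
  rw [Ne, C'.xs_eq_zero_iff hq, h]
  exact fun h' => killHom_coordT_of_le _ hj h'

variable (C') in
/-- The generic point of the `i`-th stratum over `y`. -/
def L (y : X) (hy : y ∈ C'.U) (i : Fin (n + 1)) : P :=
  haveI : (RingHom.ker (killHom (C'.bev y hy) (i : ℕ) i)).IsPrime := RingHom.ker_isPrime _
  (C'.exists_pr_eq i (RingHom.ker (killHom (C'.bev y hy) (i : ℕ) i))).choose

theorem L_spec_self (i : Fin (n + 1)) :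
    ∃ h : C'.L y hy i ∈ C'.V i, C'.pr i (C'.L y hy i) h = RingHom.ker (killHom (C'.bev y hy) (i : ℕ) i) :=
  haveI : (RingHom.ker (killHom (C'.bev y hy) (i : ℕ) i)).IsPrime := RingHom.ker_isPrime _
  (C'.exists_pr_eq i (RingHom.ker (killHom (C'.bev y hy) (i : ℕ) i))).choose_spec

theorem L_mem_F (i : Fin (n + 1)) : C'.L y hy i ∈ C'.F y (i : ℕ) := by
  obtain ⟨h, he⟩ := L_spec_self hy i
  exact mem_F_of_pr_eq hy le_rfl h he

theorem apply_L (i : Fin (n + 1)) : p (C'.L y hy i) = y := (L_mem_F hy i).1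

theorem L_mem_U (i : Fin (n + 1)) : p (C'.L y hy i) ∈ C'.U := (apply_L hy i).symm ▸ hy

theorem L_mem_V {i m : Fin (n + 1)} (hm : (i : ℕ) ≤ (m : ℕ)) : C'.L y hy i ∈ C'.V m := by
  obtain ⟨h, he⟩ := L_spec_self hy i
  exact C'.mem_V (hq := C'.le i h) (xs_ne_zero_of_pr_eq hy h he hm)

theorem pr_L {i m : Fin (n + 1)} (hm : (i : ℕ) ≤ (m : ℕ)) :
    C'.pr m (C'.L y hy i) (L_mem_V hy hm) = RingHom.ker (killHom (C'.bev y hy) (i : ℕ) m) := by
  obtain ⟨h, he⟩ := L_spec_self hy i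
  haveI : (RingHom.ker (killHom (C'.bev y hy) (i : ℕ) m)).IsPrime := RingHom.ker_isPrime _
  obtain ⟨z, hz, hze⟩ := C'.exists_pr_eq m (RingHom.ker (killHom (C'.bev y hy) (i : ℕ) m))
  have hzF := mem_F_of_pr_eq hy hm hz hze
  have hzi : z ∈ C'.V i := C'.mem_V (xs_ne_zero_of_pr_eq hy hz hze le_rfl)
  have h1 : C'.L y hy i ⤳ z := C'.specializes_of_le h hzi (he ▸ ker_le_pr hy le_rfl hzi hzF)
  have h2 : z ⤳ C'.L y hy i := C'.specializes_of_le hz (L_mem_V hy hm) (hze ▸ ker_le_pr hy hm _ (L_mem_F hy i))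
  obtain rfl : z = C'.L y hy i := (h2.antisymm h1).eq
  exact hze

theorem xs_L {i j : Fin (n + 1)} : C'.xs j (C'.L y hy i) (L_mem_U hy i) = 0 ↔ (j : ℕ) < (i : ℕ) := by
  obtain ⟨h, he⟩ := L_spec_self hy i
  rw [C'.xs_eq_zero_iff h, he, RingHom.mem_ker, killHom_coordT_eq_zero_iff _ le_rfl]

/-- Every point over `y` with vanishing first coordinates is a specialisation of the generic point of the stratum. -/
theorem L_specializes {i : Fin (n + 1)} {q : P} (hF : q ∈ C'.F y (i : ℕ)) : C'.L y hy i ⤳ q := by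
  obtain ⟨m, hm⟩ := C'.cover q (hF.1.symm ▸ hy)
  have hle : (i : ℕ) ≤ (m : ℕ) := not_lt.1 fun h => C'.xs_self_ne_zero hm (hF.2 m _ h)
  exact C'.specializes_of_le (L_mem_V hy hle) hm ((pr_L hy hle).le.trans (ker_le_pr hy hle hm hF))

theorem F_last : C'.F y (n + 1) ⊆ {q | p q ∉ C'.U} := fun q hq hqU => by
  obtain ⟨m, hm⟩ := C'.cover q hqU
  exact C'.xs_self_ne_zero hm (hq.2 m _ m.2)

theorem mem_F_succ {i : Fin (n + 1)} {q : P} (hF : q ∈ C'.F y (i : ℕ))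
    (h : ∀ hq : p q ∈ C'.U, C'.xs i q hq = 0) : q ∈ C'.F y ((i : ℕ) + 1) := by
  refine ⟨hF.1, fun j hq hj => ?_⟩
  rcases Nat.lt_succ_iff_lt_or_eq.1 hj with hj | hj
  · exact hF.2 j hq hj
  · obtain rfl : j = i := Fin.ext hj
    exact h hq

theorem mem_F_of_specializes {i : Fin (n + 1)} {q : P} (h : C'.L y hy i ⤳ q) (hq : p q = y) :
    q ∈ C'.F y (i : ℕ) := by
  refine ⟨hq, fun j hqU hj => ?_⟩
  by_contra hne
  have hqj := C'.mem_V hne
  have hLj := h.mem_open (C'.V j).2 hqj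
  exact C'.xs_self_ne_zero hLj ((xs_L hy).2 hj)

end Chart

end

end Groth.Agent.Proj83
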