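import Groth.Agent.Proj83.Strata
import Groth.Agent.H23.FlatShift
import Groth.Agent.H23.C1Desc
import Groth.Agent.H23.C1Cycle
import Groth.Agent.H23.FlatClass
import Mathlib.AlgebraicGeometry.Morphisms.Flat

/-!
Iterated caps with `c₁(O(1))` of pull-backs, computed exactly with adapted rational sections.
-/

set_option autoImplicit false
set_option linter.style.haveILetI false

universe u

open CategoryTheory AlgebraicGeometry TopologicalSpace Opposite

namespace Groth.Agent.Proj83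

open Groth.Agent.AModX

noncomputable section

variable {X P : Scheme.{u}} {p : P ⟶ X} {O : P.Modules} {n : ℕ}

/-- Coordinates around every point of the base. -/
structure Atlas (p : P ⟶ X) (O : P.Modules) (n : ℕ) where
  C : X → Chart p O n
  mem : ∀ y, y ∈ (C y).U

namespace Atlas

variable (𝔄 : Atlas p O n)

/-- The generic point of the `i`-th stratum over `y`. -/
def Lp (y : X) (i : Fin (n + 1)) : P := (𝔄.C y).L y (𝔄.mem y) i

theorem apply_Lp (y : X) (i : Fin (n + 1)) : p (𝔄.Lp y i) = y := Chart.apply_L _ i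

theorem exists_sp (w : (ξ : P) → Cyc.secFibre O ξ) (hw : ∀ ξ, w ξ ≠ 0) :
    ∃ t : ℕ → (ξ : P) → Cyc.secFibre O ξ, (∀ i ξ, t i ξ ≠ 0) ∧
      ∀ (y : X) (i : Fin (n + 1)) (h : p (𝔄.Lp y i) ∈ (𝔄.C y).U),
        t i (𝔄.Lp y i) = (𝔄.C y).xs i (𝔄.Lp y i) h := by
  classical
  let t : ℕ → (ξ : P) → Cyc.secFibre O ξ := fun i ξ =>
    if h : i < n + 1 ∧ (𝔄.C (p ξ)).xs (Fin.ofNat (n + 1) i) ξ (𝔄.mem (p ξ)) ≠ 0 then
      (𝔄.C (p ξ)).xs (Fin.ofNat (n + 1) i) ξ (𝔄.mem (p ξ))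
    else w ξ
  refine ⟨t, fun i ξ => ?_, fun y i h => ?_⟩
  · simp only [t]
    split_ifs with h
    · exact h.2
    · exact hw ξ
  · have key : ∀ ξ : P, p ξ = y → ∀ h : p ξ ∈ (𝔄.C y).U, (𝔄.C y).xs i ξ h ≠ 0 →
        t i ξ = (𝔄.C y).xs i ξ h := by
      rintro ξ rfl h hne
      have hi : Fin.ofNat (n + 1) (i : ℕ) = i := Fin.ext (Nat.mod_eq_of_lt i.2)
      simp only [t]
      rw [dif_pos ⟨i.2, by rw [hi]; exact hne⟩]
      exact congrArg (fun j => (𝔄.C (p ξ)).xs j ξ h) hi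
    refine key _ (𝔄.apply_Lp y i) h fun h0 => ?_
    exact lt_irrefl _ ((Chart.xs_L (𝔄.mem y)).1 h0)

variable {δ : X → ℤ} {δP : P → ℤ} (hδ : Cyc.DeltaCompat p δP δ) (hd : Cyc.IsDimFun P δP)

include 𝔄 hδ hd in
theorem hasShift : H23.FlatShift.HasShift p δP δ (n : ℤ) := by
  intro x hx
  have hF : x ∈ (𝔄.C (p x)).F (p x) ((0 : Fin (n + 1)) : ℕ) := ⟨rfl, fun j _ hj => absurd hj (by simp)⟩
  have h := hx _ (Chart.apply_L (𝔄.mem (p x)) 0) (Chart.L_specializes (𝔄.mem (p x)) hF)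
  have := Chart.delta_L (𝔄.mem (p x)) hδ hd 0
  rw [h] at this
  simpa using this

include 𝔄 in
theorem flat : Flat p := by
  rw [HasRingHomProperty.iff_exists_appLE (P := @Flat)
    (RingHom.Flat.stableUnderComposition.stableUnderCompositionWithLocalizationAway
      RingHom.Flat.holdsForLocalizationAway).1]
  intro q
  obtain ⟨m, hm⟩ := (𝔄.C (p q)).cover q (𝔄.mem (p q))
  let C' := 𝔄.C (p q)
  refine ⟨⟨C'.U, C'.hU⟩, ⟨C'.V m, C'.hV m⟩, hm, C'.le m, ?_⟩
  have e : (p.appLE C'.U (C'.V m) (C'.le m)).hom =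
      (C'.coord m).toRingHom.comp (algebraMap Γ(X, C'.U) (MvPolynomial (CIdx n m) Γ(X, C'.U))) :=
    RingHom.ext fun r => (C'.coord_C m r).symm
  show RingHom.Flat (p.appLE C'.U (C'.V m) (C'.le m)).hom
  rw [e]
  exact RingHom.Flat.comp (RingHom.flat_algebraMap_iff.2 inferInstance)
    (RingHom.Flat.of_bijective (C'.coord m).bijective)

variable [IsLocallyNoetherian P] (hdX : Cyc.IsDimFun X δ) (hO : PicF.IsInvertible O)

include hδ hd hdX hO in
open scoped Classical in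
/-- The exact value of the iterated caps with adapted sections. -/
theorem exact {k : ℤ} {α : X → ℤ} (hα : ∀ y, δ y ≠ k → α y = 0) {t : ℕ → (ξ : P) → Cyc.secFibre O ξ}
    (ht : ∀ (y : X) (i : Fin (n + 1)) (h : p (𝔄.Lp y i) ∈ (𝔄.C y).U),
        t i (𝔄.Lp y i) = (𝔄.C y).xs i (𝔄.Lp y i) h)
    {γ : ℕ → P → ℤ} (h0 : γ 0 = Cyc.pullFun p δP δ (n : ℤ) α)
    (hs : ∀ i, γ (i + 1) = Cyc.c1CapFun δP O (γ i) (t i)) :
    ∀ (s : Fin (n + 1)) (q : P), k ≤ δ (p q) → γ s q = if q = 𝔄.Lp (p q) s then α (p q) else 0 := by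
  intro s
  induction s using Fin.induction with
  | zero =>
    intro q _
    rw [Fin.val_zero, h0, Chart.pullFun_apply (𝔄.mem (p q)) hδ hd rfl]
    rfl
  | succ i ih =>
    intro q hq
    rw [Fin.val_succ, hs, Cyc.c1CapFun]
    set y := p q with hy
    rw [finsum_eq_single _ (𝔄.Lp y i.castSucc) fun ξ hξ => ?_]
    · have hy' : p (𝔄.Lp y i.castSucc) = y := 𝔄.apply_Lp y _
      have h1 := ih (𝔄.Lp y i.castSucc) (hy'.symm ▸ hq)
      rw [hy', if_pos rfl] at h1
      have hU : p (𝔄.Lp y i.castSucc) ∈ (𝔄.C y).U := hy'.symm ▸ 𝔄.mem y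
      have h2 : Cyc.secDivFun δP O (𝔄.Lp y i.castSucc) (t i (𝔄.Lp y i.castSucc)) q =
          if ∃ i' : Fin (n + 1), (i' : ℕ) = (i.castSucc : ℕ) + 1 ∧ q = (𝔄.C y).L y (𝔄.mem y) i' then 1 else 0 := by
        rw [show t i (𝔄.Lp y i.castSucc) = (𝔄.C y).xs i.castSucc (𝔄.Lp y i.castSucc) hU from ht y i.castSucc hU]
        exact Chart.secDivFun_L (𝔄.mem y) hδ hd hO i.castSucc hy.symm
      have h1' : γ (i : ℕ) (𝔄.Lp y i.castSucc) = α y := h1
      rw [h1', h2]
      by_cases hqL : q = 𝔄.Lp y i.succ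
      · rw [if_pos hqL, if_pos ⟨i.succ, by simp, hqL⟩, mul_one]
      · rw [if_neg hqL, if_neg, mul_zero]
        rintro ⟨i', hi', h⟩
        obtain rfl : i' = i.succ := Fin.ext (by simpa using hi')
        exact hqL h
    · by_contra hne
      have hsp : ξ ⤳ q := by
        by_contra hn
        exact right_ne_zero_of_mul hne (by simp [Cyc.secDivFun, hn])
      have hspX : p ξ ⤳ y := hsp.map p.continuous
      have hk : k ≤ δ (p ξ) := hq.trans (CycLib.delta_le hdX hspX)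
      have h1 : γ i ξ = if ξ = 𝔄.Lp (p ξ) i.castSucc then α (p ξ) else 0 := ih ξ hk
      have h2 := left_ne_zero_of_mul hne
      rw [h1] at h2
      split_ifs at h2 with hξL
      · have hk' : δ (p ξ) = k := by_contra fun h => h2 (hα _ h)
        have he : p ξ = y := CycLib.eq_of_delta_le hdX hspX (by omega)
        exact hξ (hξL.trans (congrArg (fun z => 𝔄.Lp z i.castSucc) he))
      · exact h2 rfl

include hδ hd hdX hO in
open scoped Classical in
/-- The push-forward of the exact values. -/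
theorem map_exact [QuasiCompact p] {k : ℤ} {α : X → ℤ} (hα : ∀ y, δ y ≠ k → α y = 0)
    {t : ℕ → (ξ : P) → Cyc.secFibre O ξ}
    (ht : ∀ (y : X) (i : Fin (n + 1)) (h : p (𝔄.Lp y i) ∈ (𝔄.C y).U),
        t i (𝔄.Lp y i) = (𝔄.C y).xs i (𝔄.Lp y i) h)
    {γ : ℕ → P → ℤ} (h0 : γ 0 = Cyc.pullFun p δP δ (n : ℤ) α)
    (hs : ∀ i, γ (i + 1) = Cyc.c1CapFun δP O (γ i) (t i)) (s : Fin (n + 1)) {β : AlgebraicCycle P ℤ}
    (hβ : ⇑β = γ s) (hdeg : ∀ q, δP q ≠ k + n - (s : ℕ) → β q = 0) (y : X) :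
    AlgebraicCycle.map p δP δ β y = if (s : ℕ) = n then α y else 0 := by
  rw [CycLib.map_apply']
  have hterm : ∀ q : P, p q = y → δP q = δ y → β q = if q = 𝔄.Lp y s then α y else 0 := by
    intro q hq hδq
    by_cases hk : δ y = k + n - (s : ℕ)
    · have := exact 𝔄 hδ hd hdX hO hα ht h0 hs s q (by have := s.2; rw [hq]; omega)
      rw [hq] at this
      rw [hβ, this]
    · rw [hdeg q (by omega)]
      split_ifs with h
      · have hδL := Chart.delta_L (𝔄.mem y) hδ hd s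
        rw [show (𝔄.C y).L y (𝔄.mem y) s = q from h.symm] at hδL
        by_cases hy : δ y = k
        · omega
        · exact (hα y hy).symm
      · rfl
  rw [finsum_mem_def, finsum_eq_single _ (𝔄.Lp y s) fun q hq => ?_]
  rotate_left
  · rw [Set.indicator_apply]
    split_ifs with hqy
    · have hqy' : p q = y := hqy
      rw [AlgebraicCycle.mapCoeff]
      split_ifs with h
      · have h' : δP q = δ y := hqy' ▸ h
        rw [hterm q hqy' h', if_neg hq, zero_mul]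
      · simp
    · rfl
  rw [Set.indicator_of_mem (show 𝔄.Lp y s ∈ p ⁻¹' {y} from 𝔄.apply_Lp y s)]
  split_ifs with hsn
  · obtain rfl : s = Fin.last n := Fin.ext (by simpa using hsn)
    rw [AlgebraicCycle.mapCoeff, if_pos (by rw [𝔄.apply_Lp]; exact Chart.delta_last (𝔄.mem y) hδ),
      hterm _ (𝔄.apply_Lp y _) (Chart.delta_last (𝔄.mem y) hδ), if_pos rfl]
    rw [show p.residueDegree (𝔄.Lp y (Fin.last n)) = 1 from Chart.residueDegree_last (𝔄.mem y)]
    simp
  · rw [AlgebraicCycle.mapCoeff, if_neg]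
    · simp
    · intro h
      have hδL := Chart.delta_L (𝔄.mem y) hδ hd s
      have h' : δP (𝔄.Lp y s) = δ (p (𝔄.Lp y s)) := h
      rw [𝔄.apply_Lp] at h'
      rw [show δP (𝔄.Lp y s) = δP ((𝔄.C y).L y (𝔄.mem y) s) from rfl, hδL] at h'
      have := s.2
      omega

end Atlas

end

end Groth.Agent.Proj83
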