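import Groth.Agent.Proj83.PushPull

/-!
The classes `c₁(O(1))^i ∩ p^* α_i`, `i ≤ n`, of a projective bundle are independent.
-/

set_option autoImplicit false
set_option linter.style.haveILetI false

universe u

open CategoryTheory AlgebraicGeometry

namespace Groth.Agent.Proj83

open Groth.Agent H23

noncomputable section

variable {X : Scheme.{u}} {δ : X → ℤ} {k : ℤ}

/-- A cycle with zero class is rationally equivalent to zero. -/
theorem ratEquivZero_of_cl_eq_zero [IsLocallyNoetherian X] (hd : Cyc.IsDimFun X δ) {a : AlgebraicCycle X ℤ}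
    {ha : a ∈ Cyc.Zk X δ k} (h : ChowOps.cl a ha = 0) : Cyc.RatEquivZero δ k a := by
  have h' : (⟨a, ha⟩ : ↥(ChowOps.zk X δ k)) ∈ ChowOps.ratTriv X δ k := (QuotientAddGroup.eq_zero_iff _).1 h
  suffices H : ∀ b, b ∈ ChowOps.ratTriv X δ k → Cyc.RatEquivZero δ k (b : AlgebraicCycle X ℤ) from H _ h'
  intro b hb
  induction hb using AddSubgroup.closure_induction with
  | mem b hb => exact hb
  | zero => exact RatOn.ratEquivZero (T := Set.univ) (RatOn.congr (RatOn.zero Set.univ) fun _ => rfl)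
  | add b c _ _ hb hc =>
    refine RatOn.ratEquivZero (RatOn.congr (RatOn.add hd (RatOn.of_ratEquivZero hb) (RatOn.of_ratEquivZero hc) 1 1)
      fun x => ?_)
    show (b : AlgebraicCycle X ℤ) x + (c : AlgebraicCycle X ℤ) x = _
    ring
  | neg b _ hb =>
    refine RatOn.ratEquivZero (RatOn.congr (RatOn.add hd (RatOn.of_ratEquivZero hb) (RatOn.zero Set.univ) (-1) 1)
      fun x => ?_)
    show -(b : AlgebraicCycle X ℤ) x = _
    ring

/-- The cap on functions, additive in the cycle. -/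
def capFunHom (δ : X → ℤ) (L : X.Modules) (v : (ξ : X) → Cyc.secFibre L ξ) :
    AlgebraicCycle X ℤ →+ (X → ℤ) :=
  AddMonoidHom.mk' (fun a => Cyc.c1CapFun δ L ⇑a v) fun a b => by
    show Cyc.c1CapFun δ L ⇑(a + b) v = _
    rw [Function.locallyFinsuppWithin.coe_add]
    exact Bivar.c1CapFun_add δ L a b v

/-- The coefficients, additive in the cycle. -/
def coeHom : AlgebraicCycle X ℤ →+ (X → ℤ) :=
  AddMonoidHom.mk' (fun a => ⇑a) fun a b => Function.locallyFinsuppWithin.coe_add a b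

theorem coe_sum {ι : Type*} (S : Finset ι) (G : ι → AlgebraicCycle X ℤ) (x : X) :
    (∑ i ∈ S, G i) x = ∑ i ∈ S, G i x := by
  show coeHom (∑ i ∈ S, G i) x = _
  rw [map_sum, Finset.sum_apply]
  rfl

variable {P : Scheme.{u}} {p : P ⟶ X} {O : P.Modules} {n : ℕ} (𝔄 : Atlas p O n) {δP : P → ℤ}

namespace Atlas

include 𝔄 in
theorem independent [IsProper p] (hX : Cyc.IsSetup X δ) (hP : Cyc.IsSetup P δP) (hδ : Cyc.DeltaCompat p δP δ)
    (hO : PicF.IsInvertible O) (α : Fin (n + 1) → AlgebraicCycle X ℤ)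
    (hα : ∀ i : Fin (n + 1), α i ∈ Cyc.Zk X δ (k + ((i : ℕ) : ℤ)))
    {t : Fin (n + 1) → ℕ → (ξ : P) → Cyc.secFibre O ξ} (ht : ∀ i m ξ, t i m ξ ≠ 0)
    {γ : Fin (n + 1) → ℕ → P → ℤ} (h0 : ∀ i, γ i 0 = Cyc.pullFun p δP δ (n : ℤ) ⇑(α i))
    (hs : ∀ i m, γ i (m + 1) = Cyc.c1CapFun δP O (γ i m) (t i m)) {β : AlgebraicCycle P ℤ}
    (hβ : ∀ x, β x = ∑ i, γ i (i : ℕ) x) (hβ0 : Cyc.RatEquivZero δP (k + n) β) :
    ∀ i : Fin (n + 1), Cyc.RatEquivZero δ (k + ((i : ℕ) : ℤ)) (α i) := by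
  classical
  haveI := hX.1
  haveI := hP.1
  haveI := 𝔄.flat
  have hd := hP.2.2
  have hc := 𝔄.hasShift hδ hd
  suffices H : ∀ d : ℕ, ∀ l : Fin (n + 1), n - (l : ℕ) = d → Cyc.RatEquivZero δ (k + ((l : ℕ) : ℤ)) (α l) from
    fun i => H _ i rfl
  intro d
  induction d using Nat.strong_induction_on with
  | _ d ih =>
  intro l hl
  let u : ℕ → (ξ : P) → Cyc.secFibre O ξ := t l
  let t' : Fin (n + 1) → ℕ → (ξ : P) → Cyc.secFibre O ξ := fun i m =>
    if m < (i : ℕ) then t i m else u (m - (i : ℕ))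
  have ht' : ∀ i m ξ, t' i m ξ ≠ 0 := fun i m ξ => by
    simp only [t']
    split_ifs <;> exact ht _ _ ξ
  have hpull : ∀ i : Fin (n + 1), FlatClass.pullCycle hc hd (α i) ∈ Cyc.Zk P δP (k + ((i : ℕ) : ℤ) + n) :=
    fun i => FlatClass.pullCycle_mem hc hd (hα i) rfl
  choose Δ hΔ0 hΔs using fun i => Iter.exists_iter hO hd (FlatClass.pullCycle hc hd (α i)) (ht' i)
  have hγ : ∀ i : Fin (n + 1), ∀ m ≤ (i : ℕ), ⇑(Δ i m) = γ i m := by
    intro i m
    induction m with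
    | zero => exact fun _ => by rw [hΔ0, h0]; rfl
    | succ m ihm =>
      intro hm
      rw [hΔs, hs, ihm (by omega), show t' i m = t i m from if_pos (by omega)]
  let B : ℕ → AlgebraicCycle P ℤ := fun j => ∑ i, Δ i ((i : ℕ) + j)
  have hBs : ∀ j, ⇑(B (j + 1)) = Cyc.c1CapFun δP O ⇑(B j) (u j) := by
    intro j
    show coeHom (∑ i, Δ i ((i : ℕ) + (j + 1))) = capFunHom δP O (u j) (∑ i, Δ i ((i : ℕ) + j))
    rw [map_sum, map_sum]
    refine Finset.sum_congr rfl fun i _ => ?_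
    show ⇑(Δ i ((i : ℕ) + j + 1)) = _
    rw [hΔs, show t' i ((i : ℕ) + j) = u j by simp [t']]
    rfl
  have hB0 : B 0 = β := DFunLike.coe_injective (funext fun x => by
    rw [hβ, coe_sum]
    exact Finset.sum_congr rfl fun i _ => congrFun (hγ i i le_rfl) x)
  have hBrat : ∀ j : ℕ, Cyc.RatEquiv δP (k + n - j) (B j) 0 := by
    intro j
    induction j with
    | zero => rw [Nat.cast_zero, sub_zero, hB0, Cyc.RatEquiv, sub_zero]; exact hβ0
    | succ j ihj =>
      have h := Iter.cap_congr hO hd (b := 0) (d := 0) ((ChowOps.zk P δP _).zero_mem) ihj (v := u j) (w := u j)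
        (ht l j) (ht l j) (hBs j) (map_zero (capFunHom δP O (u j))).symm
      rwa [show k + (n : ℤ) - (j : ℤ) - 1 = k + n - ((j + 1 : ℕ) : ℤ) by push_cast; ring] at h
  set D := n - (l : ℕ) with hD
  have hDl : (D : ℤ) = (n : ℤ) - ((l : ℕ) : ℤ) := by have := l.2; omega
  let K : ℤ := k + ((l : ℕ) : ℤ)
  let M : Fin (n + 1) → AlgebraicCycle X ℤ := fun i => AlgebraicCycle.map p δP δ (Δ i ((i : ℕ) + D))
  have hMmem : ∀ i, M i ∈ Cyc.Zk X δ K := fun i => by
    have h := Bivar.cycMap_mem_Zk p δP δ _ (Iter.iter_mem ((hΔ0 i).symm ▸ hpull i) (hΔs i) ((i : ℕ) + D))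
    rwa [show k + ((i : ℕ) : ℤ) + n - (((i : ℕ) + D : ℕ) : ℤ) = K by simp only [K]; push_cast; omega] at h
  have hne : ∀ i, i ≠ l → ChowOps.cl (M i) (hMmem i) = 0 := by
    intro i hi
    refine (ChowDesc.cl_eq_of_ratEquiv (β := 0) (hMmem i) ((ChowOps.zk X δ K).zero_mem) ?_).trans Bivar.cl_zero
    rcases lt_or_gt_of_ne hi with h | h
    · have h1 := 𝔄.map_iter hX hP hδ hO (hα i) (ht' i) (γ := fun m => ⇑(Δ i m)) (by rw [hΔ0]; rfl) (hΔs i)
        ⟨(i : ℕ) + D, by have := l.2; omega⟩ (β := Δ i ((i : ℕ) + D)) rfl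
      rw [if_neg (by show (i : ℕ) + D ≠ n; omega)] at h1
      convert h1 using 2
      simp only [K]; push_cast; omega
    · have hz := ih (n - (i : ℕ)) (by omega) i rfl
      have hp : Cyc.RatEquiv δP (k + ((i : ℕ) : ℤ) + n) (Δ i 0) 0 := by
        rw [Cyc.RatEquiv, sub_zero, hΔ0]
        exact DivPull.ratEquivZero_pull p hc hX.2.2 hd hz _ rfl
      have h1 := Iter.iter_congr hO hd (Γ := Δ i) (Γ' := fun _ => 0) ((ChowOps.zk P δP _).zero_mem) hp (ht' i)
        (ht' i) (hΔs i) (fun m => (map_zero (capFunHom δP O (t' i m))).symm) ((i : ℕ) + D)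
      have h2 := CycLib.ratEquiv_map p hP hX hδ h1
      have h3 : AlgebraicCycle.map p δP δ (0 : AlgebraicCycle P ℤ) = 0 :=
        map_zero (AddMonoidHom.mk' _ (Bivar.cycMap_add p δP δ))
      rw [h3] at h2
      convert h2 using 2
      simp only [K]; push_cast; omega
  have hl' : ChowOps.cl (M l) (hMmem l) = ChowOps.cl (α l) (hα l) := by
    refine ChowDesc.cl_eq_of_ratEquiv (hMmem l) (hα l) ?_
    have h1 := 𝔄.map_iter hX hP hδ hO (hα l) (ht' l) (γ := fun m => ⇑(Δ l m)) (by rw [hΔ0]; rfl) (hΔs l)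
      ⟨(l : ℕ) + D, by have := l.2; omega⟩ (β := Δ l ((l : ℕ) + D)) rfl
    rw [if_pos (by show (l : ℕ) + D = n; have := l.2; omega)] at h1
    convert h1 using 2
    push_cast; omega
  have hsum : ∑ i, ChowOps.cl (M i) (hMmem i) = 0 := by
    have e : ∑ i, ChowOps.cl (M i) (hMmem i) =
        ChowOps.cl (∑ i, M i) ((ChowOps.zk X δ K).sum_mem fun i _ => hMmem i) := by
      show ∑ i, ChowOps.clHom X δ K ⟨M i, hMmem i⟩ = _
      rw [← map_sum]
      exact congrArg (ChowOps.clHom X δ K) (Subtype.ext (AddSubgroup.val_finsetSum _ _ _))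
    rw [e]
    refine (ChowDesc.cl_eq_of_ratEquiv (β := 0) _ ((ChowOps.zk X δ K).zero_mem) ?_).trans Bivar.cl_zero
    have h1 := CycLib.ratEquiv_map p hP hX hδ (hBrat D)
    have h3 : AlgebraicCycle.map p δP δ (B D) = ∑ i, M i :=
      map_sum (AddMonoidHom.mk' _ (Bivar.cycMap_add p δP δ)) (fun i => Δ i ((i : ℕ) + D)) Finset.univ
    rw [h3, show AlgebraicCycle.map p δP δ (0 : AlgebraicCycle P ℤ) = 0 from
      map_zero (AddMonoidHom.mk' _ (Bivar.cycMap_add p δP δ))] at h1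
    convert h1 using 2
    simp only [K]; omega
  rw [Finset.sum_eq_single l (fun i _ hi => hne i hi) (fun h => absurd (Finset.mem_univ l) h), hl'] at hsum
  exact ratEquivZero_of_cl_eq_zero hX.2.2 hsum

end Atlas

end

end Groth.Agent.Proj83
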