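import Groth.Agent.H23.C1Class
import Groth.Agent.H23.RatOn
import Groth.Agent.CycLib.DivPushAll

/-!
Iterated caps with a first Chern class, on cycles.
-/

set_option autoImplicit false
set_option linter.style.haveILetI false

universe u

open CategoryTheory AlgebraicGeometry

namespace Groth.Agent.Proj83.Iter

open Groth.Agent H23

variable {X : Scheme.{u}} {δ : X → ℤ} {L : X.Modules}

/-- The cap respects rational equivalence, for any choices of sections. -/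
theorem cap_congr [IsLocallyNoetherian X] (hL : PicF.IsInvertible L) (hd : Cyc.IsDimFun X δ) {k : ℤ}
    {a b c d : AlgebraicCycle X ℤ} (hb : b ∈ Cyc.Zk X δ k) (h : Cyc.RatEquiv δ k a b)
    {v w : (ξ : X) → Cyc.secFibre L ξ} (hv : ∀ ξ, v ξ ≠ 0) (hw : ∀ ξ, w ξ ≠ 0)
    (hc : ⇑c = Cyc.c1CapFun δ L ⇑a v) (hd' : ⇑d = Cyc.c1CapFun δ L ⇑b w) : Cyc.RatEquiv δ (k - 1) c d := by
  let e := RatSec.c1CapCycle hL hd b v hv
  have h1 : RatOn.ZeroOn δ (k - 1) Set.univ fun x => c x - e x := by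
    have h0 : RatOn.ZeroOn δ (k - 1 + 1) Set.univ ⇑(a - b) := by
      rw [sub_add_cancel]
      exact RatOn.of_ratEquivZero h
    refine RatOn.congr (C1Desc.zeroOn_c1Cap hL hd h0 hv fun ξ ζ _ _ _ h => absurd trivial h) fun x => ?_
    have hadd := congrFun (Bivar.c1CapFun_add δ L (a - b) b v) x
    rw [← Function.locallyFinsuppWithin.coe_add, sub_add_cancel, Pi.add_apply] at hadd
    show c x - e x = _
    rw [hc, RatSec.coe_c1CapCycle, hadd]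
    ring
  exact RatOn.trans hd (RatOn.ratEquiv h1) (RatSec.ratEquiv_c1Cap hL hd (fun ξ hξ => hb ξ (by omega))
    (GysinLib.locFin b) hv hw (RatSec.coe_c1CapCycle hL hd b v hv) hd')

theorem refl (δ : X → ℤ) (k : ℤ) (a : AlgebraicCycle X ℤ) : Cyc.RatEquiv δ k a a :=
  RatOn.ratEquiv (T := Set.univ) (RatOn.congr (RatOn.zero Set.univ) fun _ => sub_self _)

/-- Iterated caps exist. -/
theorem exists_iter [IsLocallyNoetherian X] (hL : PicF.IsInvertible L) (hd : Cyc.IsDimFun X δ)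
    (a : AlgebraicCycle X ℤ) {t : ℕ → (ξ : X) → Cyc.secFibre L ξ} (ht : ∀ i ξ, t i ξ ≠ 0) :
    ∃ Γ : ℕ → AlgebraicCycle X ℤ, Γ 0 = a ∧ ∀ i, ⇑(Γ (i + 1)) = Cyc.c1CapFun δ L ⇑(Γ i) (t i) :=
  ⟨fun i => Nat.rec a (fun j g => RatSec.c1CapCycle hL hd g (t j) (ht j)) i, rfl, fun _ => rfl⟩

theorem iter_mem [IsLocallyNoetherian X] {l : ℤ} {Γ : ℕ → AlgebraicCycle X ℤ} (h0 : Γ 0 ∈ Cyc.Zk X δ l)
    {t : ℕ → (ξ : X) → Cyc.secFibre L ξ} (hs : ∀ i, ⇑(Γ (i + 1)) = Cyc.c1CapFun δ L ⇑(Γ i) (t i)) :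
    ∀ s : ℕ, Γ s ∈ Cyc.Zk X δ (l - s) := by
  intro s
  induction s with
  | zero => simpa using h0
  | succ s ih =>
    intro x hx
    rw [hs]
    exact GysinLib.c1CapFun_degree _ (fun ξ hξ => ih ξ hξ) (t s) (fun e => hx (by push_cast at e ⊢; omega))

theorem iter_congr [IsLocallyNoetherian X] (hL : PicF.IsInvertible L) (hd : Cyc.IsDimFun X δ) {l : ℤ}
    {Γ Γ' : ℕ → AlgebraicCycle X ℤ} (h0' : Γ' 0 ∈ Cyc.Zk X δ l) (h : Cyc.RatEquiv δ l (Γ 0) (Γ' 0))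
    {t t' : ℕ → (ξ : X) → Cyc.secFibre L ξ} (ht : ∀ i ξ, t i ξ ≠ 0) (ht' : ∀ i ξ, t' i ξ ≠ 0)
    (hs : ∀ i, ⇑(Γ (i + 1)) = Cyc.c1CapFun δ L ⇑(Γ i) (t i))
    (hs' : ∀ i, ⇑(Γ' (i + 1)) = Cyc.c1CapFun δ L ⇑(Γ' i) (t' i)) :
    ∀ s : ℕ, Cyc.RatEquiv δ (l - s) (Γ s) (Γ' s) := by
  intro s
  induction s with
  | zero => simpa using h
  | succ s ih =>
    have := cap_congr hL hd (iter_mem h0' hs' s) ih (ht s) (ht' s) (hs s) (hs' s)
    rwa [show l - (s : ℤ) - 1 = l - ((s + 1 : ℕ) : ℤ) by push_cast; ring] at this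

end Groth.Agent.Proj83.Iter
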