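import Mathlib.RingTheory.MvPolynomial.Basic
import Mathlib.RingTheory.Polynomial.Basic
import Mathlib.RingTheory.SurjectiveOnStalks
import Mathlib.RingTheory.Spectrum.Prime.Topology
import Mathlib.Algebra.MvPolynomial.Division
import Mathlib.RingTheory.Multiplicity

/-!
Coordinate rings of the strata of projective space over a field: the maps `R[T_j : j ≠ m] → K[T_j : i ≤ j, j ≠ m]`.
-/

set_option autoImplicit false

universe u

namespace Groth.Agent.Proj83

open MvPolynomial Topology

noncomputable section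

/-- Coordinates of the `m`-th chart. -/
abbrev CIdx (n : ℕ) (m : Fin (n + 1)) : Type := {j : Fin (n + 1) // j ≠ m}

/-- Coordinates of a stratum in the `m`-th chart. -/
abbrev SIdx (n : ℕ) (i : ℕ) (m : Fin (n + 1)) : Type := {j : Fin (n + 1) // i ≤ (j : ℕ) ∧ j ≠ m}

variable {n : ℕ} {R : Type u} [CommRing R] {K : Type u} [Field K]

/-- The coordinate `x_j / x_m`. -/
def coordT (R : Type u) [CommRing R] (m j : Fin (n + 1)) : MvPolynomial (CIdx n m) R :=
  if h : j = m then 1 else X ⟨j, h⟩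

theorem coordT_self (m : Fin (n + 1)) : coordT R m m = 1 := dif_pos rfl

theorem coordT_ne {m j : Fin (n + 1)} (h : j ≠ m) : coordT R m j = X ⟨j, h⟩ := dif_neg h

/-- Setting the first `i` coordinates to zero and mapping the coefficients. -/
def killHom (e : R →+* K) (i : ℕ) (m : Fin (n + 1)) : MvPolynomial (CIdx n m) R →+* MvPolynomial (SIdx n i m) K :=
  eval₂Hom (C.comp e) fun j => if h : i ≤ (j.1 : ℕ) then X ⟨j.1, h, j.2⟩ else 0

@[simp] theorem killHom_C (e : R →+* K) (i : ℕ) (m : Fin (n + 1)) (r : R) :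
    killHom e i m (C r) = C (e r) := by simp [killHom]

theorem killHom_X (e : R →+* K) (i : ℕ) (m : Fin (n + 1)) (j : CIdx n m) :
    killHom e i m (X j) = if h : i ≤ (j.1 : ℕ) then X ⟨j.1, h, j.2⟩ else 0 := by simp [killHom]

theorem killHom_coordT_of_lt (e : R →+* K) {i : ℕ} {m j : Fin (n + 1)} (hm : i ≤ (m : ℕ)) (h : (j : ℕ) < i) :
    killHom e i m (coordT R m j) = 0 := by
  have hj : j ≠ m := by rintro rfl; omega
  rw [coordT_ne hj, killHom_X, dif_neg (by simpa using h)]

theorem killHom_coordT_of_le (e : R →+* K) {i : ℕ} {m j : Fin (n + 1)} (h : i ≤ (j : ℕ)) :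
    killHom e i m (coordT R m j) ≠ 0 := by
  by_cases hj : j = m
  · subst hj
    rw [coordT_self, map_one]
    exact one_ne_zero
  · rw [coordT_ne hj, killHom_X, dif_pos h]
    exact X_ne_zero _

theorem killHom_coordT_eq_zero_iff (e : R →+* K) {i : ℕ} {m j : Fin (n + 1)} (hm : i ≤ (m : ℕ)) :
    killHom e i m (coordT R m j) = 0 ↔ (j : ℕ) < i := by
  refine ⟨fun h => not_le.1 fun h' => killHom_coordT_of_le e h' h, killHom_coordT_of_lt e hm⟩

/-- The variables killed. -/
def killSet (R : Type u) [CommRing R] (i : ℕ) (m : Fin (n + 1)) : Set (MvPolynomial (CIdx n m) R) :=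
  coordT R m '' {j | (j : ℕ) < i}

/-- The polynomial with the first `i` coordinates set to zero. -/
def dropLow (R : Type u) [CommRing R] (i : ℕ) (m : Fin (n + 1)) :
    MvPolynomial (CIdx n m) R →+* MvPolynomial (CIdx n m) R :=
  eval₂Hom C fun j => if i ≤ (j.1 : ℕ) then X j else 0

theorem sub_dropLow_mem (i : ℕ) (m : Fin (n + 1)) (a : MvPolynomial (CIdx n m) R) :
    a - dropLow R i m a ∈ Ideal.span (killSet R i m) := by
  rw [← Ideal.Quotient.eq]
  refine RingHom.congr_fun (f := Ideal.Quotient.mk _)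
    (g := (Ideal.Quotient.mk (Ideal.span (killSet R i m))).comp (dropLow R i m)) ?_ a
  refine MvPolynomial.ringHom_ext (fun r => by simp [dropLow]) fun j => ?_
  rw [RingHom.comp_apply]
  by_cases h : i ≤ (j.1 : ℕ)
  · simp [dropLow, h]
  · simp only [dropLow, eval₂Hom_X', if_neg h, map_zero]
    exact Ideal.Quotient.eq_zero_iff_mem.2 (Ideal.subset_span ⟨j.1, by simpa using h, coordT_ne j.2⟩)

/-- The kernel of `killHom`. -/
theorem ker_killHom (e : R →+* K) {i : ℕ} {m : Fin (n + 1)} (hm : i ≤ (m : ℕ)) :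
    RingHom.ker (killHom e i m) = (RingHom.ker e).map C ⊔ Ideal.span (killSet R i m) := by
  refine le_antisymm (fun a ha => ?_) (sup_le ?_ ?_)
  · have h1 := sub_dropLow_mem i m a
    refine Submodule.mem_sup.2 ⟨dropLow R i m a, ?_, a - dropLow R i m a, h1, by ring⟩
    rw [mem_map_C_iff]
    intro d
    rw [RingHom.mem_ker, ← coeff_map]
    have key : (rename (fun j : SIdx n i m => (⟨j.1, j.2.2⟩ : CIdx n m))).toRingHom.comp
        ((killHom e i m)) = (MvPolynomial.map e).comp (dropLow R i m) := by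
      refine MvPolynomial.ringHom_ext (fun r => by simp [dropLow]) fun j => ?_
      by_cases h : i ≤ (j.1 : ℕ)
      · simp [dropLow, killHom_X, h]
      · simp [dropLow, killHom_X, h]
    have := RingHom.congr_fun key a
    rw [RingHom.comp_apply, RingHom.comp_apply, RingHom.mem_ker.1 ha, map_zero] at this
    rw [← this, coeff_zero]
  · rw [Ideal.map_le_iff_le_comap]
    intro r hr
    rw [Ideal.mem_comap, RingHom.mem_ker, killHom_C, RingHom.mem_ker.1 hr, map_zero]
  · rw [Ideal.span_le]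
    rintro _ ⟨j, hj, rfl⟩
    exact killHom_coordT_of_lt e hm hj

theorem killSet_succ (i : Fin (n + 1)) (m : Fin (n + 1)) :
    killSet R ((i : ℕ) + 1) m = insert (coordT R m i) (killSet R i m) := by
  rw [killSet, killSet, ← Set.image_insert_eq]
  congr 1
  ext j
  simp only [Set.mem_setOf_eq, Set.mem_insert_iff, Fin.ext_iff]
  omega

/-- Denominators can be cleared by constants. -/
theorem exists_clear (e : R →+* K) (he : ∀ c : K, ∃ a s : R, e s ≠ 0 ∧ c * e s = e a) (i : ℕ) (m : Fin (n + 1))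
    (x : MvPolynomial (SIdx n i m) K) : ∃ r s, e s ≠ 0 ∧ C (e s) * x = killHom e i m r := by
  induction x using MvPolynomial.induction_on with
  | C c =>
    obtain ⟨a, s, hs, h⟩ := he c
    exact ⟨C a, s, hs, by rw [killHom_C, ← map_mul, mul_comm, h]⟩
  | add x y hx hy =>
    obtain ⟨r, s, hs, h⟩ := hx
    obtain ⟨r', s', hs', h'⟩ := hy
    refine ⟨C s' * r + C s * r', s * s', by rw [map_mul]; exact mul_ne_zero hs hs', ?_⟩
    simp only [map_add, map_mul, killHom_C]
    rw [← h, ← h']
    ring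
  | mul_X x j hx =>
    obtain ⟨r, s, hs, h⟩ := hx
    refine ⟨r * X ⟨j.1, j.2.2⟩, s, hs, ?_⟩
    rw [map_mul, ← h, killHom_X, dif_pos j.2.1]
    ring

theorem surjectiveOnStalks_killHom (e : R →+* K) (he : ∀ c : K, ∃ a s : R, e s ≠ 0 ∧ c * e s = e a) (i : ℕ)
    (m : Fin (n + 1)) : (killHom e i m).SurjectiveOnStalks :=
  RingHom.surjectiveOnStalks_of_exists_div fun x => by
    obtain ⟨r, s, hs, h⟩ := exists_clear e he i m x
    exact ⟨r, C s, by rw [killHom_C]; exact (isUnit_iff_ne_zero.2 hs).map C, by rw [killHom_C]; exact h⟩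

variable {A B : Type*} [CommRing A] [CommRing B] {f : A →+* B}

/-- When every element is an image up to a unit, `Spec` is an embedding. -/
theorem isEmbedding_comap_of_exists_unit (h : ∀ x : B, ∃ r u, IsUnit u ∧ u * x = f r) :
    IsEmbedding (PrimeSpectrum.comap f) := by
  have hind : IsInducing (PrimeSpectrum.comap f) := by
    refine ⟨le_antisymm (PrimeSpectrum.continuous_comap f).le_induced ?_⟩
    rw [(PrimeSpectrum.isTopologicalBasis_basic_opens (R := B)).eq_generateFrom]
    refine TopologicalSpace.le_generateFrom_iff_subset_isOpen.2 ?_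
    rintro _ ⟨x, rfl⟩
    obtain ⟨r, u, hu, hx⟩ := h x
    refine ⟨PrimeSpectrum.basicOpen r, PrimeSpectrum.isOpen_basicOpen, ?_⟩
    show (PrimeSpectrum.comap f) ⁻¹' _ = _
    ext q
    show f r ∉ q.asIdeal ↔ x ∉ q.asIdeal
    rw [← hx, Ideal.unit_mul_mem_iff_mem _ hu]
  exact hind.isEmbedding

theorem isEmbedding_comap_killHom (e : R →+* K) (he : ∀ c : K, ∃ a s : R, e s ≠ 0 ∧ c * e s = e a) (i : ℕ)
    (m : Fin (n + 1)) : IsEmbedding (PrimeSpectrum.comap (killHom e i m)) :=
  isEmbedding_comap_of_exists_unit fun x => by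
    obtain ⟨r, s, hs, h⟩ := exists_clear e he i m x
    exact ⟨r, C (e s), (isUnit_iff_ne_zero.2 hs).map C, h⟩

/-- Primes over the kernel of `e` containing the kernel extend. -/
theorem exists_prime_killHom (e : R →+* K) (he : ∀ c : K, ∃ a s : R, e s ≠ 0 ∧ c * e s = e a) {i : ℕ}
    {m : Fin (n + 1)} (P : Ideal (MvPolynomial (CIdx n m) R)) [hP : P.IsPrime]
    (hker : RingHom.ker (killHom e i m) ≤ P) (hdis : ∀ s, e s ≠ 0 → C s ∉ P) :
    ∃ Q : Ideal (MvPolynomial (SIdx n i m) K), Q.IsPrime ∧ Q.comap (killHom e i m) = P := by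
  let f := killHom e i m
  let Q : Ideal (MvPolynomial (SIdx n i m) K) :=
    { carrier := {x | ∃ r s, e s ≠ 0 ∧ r ∈ P ∧ C (e s) * x = f r}
      zero_mem' := ⟨0, 1, by simp, P.zero_mem, by simp⟩
      add_mem' := by
        rintro x y ⟨r, s, hs, hr, h⟩ ⟨r', s', hs', hr', h'⟩
        refine ⟨C s' * r + C s * r', s * s', by rw [map_mul]; exact mul_ne_zero hs hs',
          P.add_mem (P.mul_mem_left _ hr) (P.mul_mem_left _ hr'), ?_⟩
        simp only [f, map_add, map_mul, killHom_C] at h h' ⊢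
        rw [← h, ← h']
        ring
      smul_mem' := by
        rintro c x ⟨r, s, hs, hr, h⟩
        obtain ⟨r', s', hs', h'⟩ := exists_clear e he i m c
        refine ⟨r' * r, s' * s, by rw [map_mul]; exact mul_ne_zero hs' hs, P.mul_mem_left _ hr, ?_⟩
        simp only [f, smul_eq_mul, map_mul] at h h' ⊢
        rw [← h, ← h']
        ring }
  have hcomap : ∀ a, f a ∈ Q → a ∈ P := by
    rintro a ⟨r, s, hs, hr, h⟩
    have : C s * a - r ∈ P := hker (by
      rw [RingHom.mem_ker, map_sub, map_mul, killHom_C, h, sub_self])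
    have h2 : C s * a ∈ P := by simpa using P.add_mem this hr
    exact (hP.mem_or_mem h2).resolve_left (hdis s hs)
  refine ⟨Q, ⟨fun hQ => ?_, fun {x y} hxy => ?_⟩, ?_⟩
  · exact hP.ne_top ((Ideal.eq_top_iff_one _).2 (hcomap 1 (hQ ▸ Submodule.mem_top)))
  · obtain ⟨r, s, hs, h⟩ := exists_clear e he i m x
    obtain ⟨r', s', hs', h'⟩ := exists_clear e he i m y
    have : r * r' ∈ P := hcomap _ (by
      rw [map_mul, ← h, ← h', show C (e s) * x * (C (e s') * y) = C (e s) * C (e s') * (x * y) by ring]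
      exact Q.mul_mem_left _ hxy)
    rcases hP.mem_or_mem this with hr | hr
    · exact Or.inl ⟨r, s, hs, hr, h⟩
    · exact Or.inr ⟨r', s', hs', hr, h'⟩
  · refine le_antisymm (fun a ha => hcomap a ha) fun a ha => ⟨a, 1, by simp, ha, by simp [f]⟩

/-- A prime below a variable is zero. -/
theorem eq_bot_of_le_span_X {σ : Type*} (j : σ) (Q : Ideal (MvPolynomial σ K)) [hQ : Q.IsPrime]
    (hle : Q ≤ Ideal.span {X j}) (hj : (X j : MvPolynomial σ K) ∉ Q) : Q = ⊥ := by
  refine (Submodule.eq_bot_iff _).2 fun a ha => by_contra fun ha0 => ?_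
  have hnu : ¬ IsUnit (X j : MvPolynomial σ K) := fun h => by
    have := h.map (eval₂Hom (RingHom.id K) (0 : σ → K))
    simp at this
  obtain ⟨k, hk⟩ := FiniteMultiplicity.of_not_isUnit hnu ha0
  refine hk ?_
  clear hk
  induction k + 1 with
  | zero => simp
  | succ l ih =>
    obtain ⟨b, rfl⟩ := ih
    have hb : b ∈ Q := (hQ.mem_or_mem ha).resolve_left fun h => hj (hQ.mem_of_pow_mem l h)
    obtain ⟨c, hc⟩ := Ideal.mem_span_singleton.1 (hle hb)
    exact ⟨c, by rw [hc]; ring⟩

end

end Groth.Agent.Proj83
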