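import Groth.Agent.Proj83.Iter
import Groth.Agent.H23.FlatClass

/-!
Iterated caps of pull-backs as additive maps on cycles, and their locality.
-/

set_option autoImplicit false
set_option linter.style.haveILetI false

universe u

open CategoryTheory AlgebraicGeometry

namespace Groth.Agent.Proj83.Ops

open Groth.Agent H23

noncomputable section

variable {X P : Scheme.{u}} {p : P ⟶ X} [Flat p] {L : P.Modules} {δ : X → ℤ} {δP : P → ℤ} {c : ℤ}
  [IsLocallyNoetherian X] [IsLocallyNoetherian P]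
  (hc : FlatShift.HasShift p δP δ c) (hd : Cyc.IsDimFun P δP) (hL : PicF.IsInvertible L)
  (t : ℕ → (ξ : P) → Cyc.secFibre L ξ) (ht : ∀ i ξ, t i ξ ≠ 0)

/-- `c₁(L)^s ∩ p^*`, on cycles, with the given sections. -/
def op : ℕ → (AlgebraicCycle X ℤ →+ AlgebraicCycle P ℤ)
  | 0 => AddMonoidHom.mk' (FlatClass.pullCycle hc hd) fun a b => DFunLike.coe_injective (by
      show Cyc.pullFun p δP δ c ⇑(a + b) = _
      rw [Function.locallyFinsuppWithin.coe_add, Bivar.pullFun_add, Function.locallyFinsuppWithin.coe_add]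
      rfl)
  | s + 1 => (AddMonoidHom.mk' (fun a => RatSec.c1CapCycle hL hd a (t s) (ht s)) fun a b =>
      DFunLike.coe_injective (by
        show Cyc.c1CapFun δP L ⇑(a + b) (t s) = _
        rw [Function.locallyFinsuppWithin.coe_add, Bivar.c1CapFun_add, Function.locallyFinsuppWithin.coe_add]
        rfl)).comp (op s)

theorem op_zero (a : AlgebraicCycle X ℤ) : ⇑(op hc hd hL t ht 0 a) = Cyc.pullFun p δP δ c ⇑a := rfl

theorem op_succ (s : ℕ) (a : AlgebraicCycle X ℤ) :
    ⇑(op hc hd hL t ht (s + 1) a) = Cyc.c1CapFun δP L ⇑(op hc hd hL t ht s a) (t s) := rfl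

theorem op_mem {k : ℤ} {a : AlgebraicCycle X ℤ} (ha : a ∈ Cyc.Zk X δ k) (s : ℕ) :
    op hc hd hL t ht s a ∈ Cyc.Zk P δP (k + c - s) :=
  Iter.iter_mem (Γ := fun i => op hc hd hL t ht i a) (FlatClass.pullCycle_mem hc hd ha rfl)
    (fun i => op_succ hc hd hL t ht i a) s

/-- The value at a point depends on the cycle at generalisations of its image only. -/
theorem op_congr {a a' : AlgebraicCycle X ℤ} :
    ∀ (s : ℕ) (q : P), (∀ z, z ⤳ p q → a z = a' z) →
      op hc hd hL t ht s a q = op hc hd hL t ht s a' q := by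
  intro s
  induction s with
  | zero =>
    intro q h
    rw [op_zero, op_zero]
    simp only [Cyc.pullFun]
    rw [h (p q) specializes_rfl]
  | succ s ih =>
    intro q h
    rw [op_succ, op_succ]
    refine finsum_congr fun ξ => ?_
    by_cases hsp : ξ ⤳ q
    · rw [ih ξ fun z hz => h z (hz.trans (hsp.map p.continuous))]
    · simp [Cyc.secDivFun, hsp]

theorem op_eq_zero {a : AlgebraicCycle X ℤ} (s : ℕ) (q : P) (h : ∀ z, z ⤳ p q → a z = 0) :
    op hc hd hL t ht s a q = 0 := by
  rw [op_congr hc hd hL t ht (a' := 0) s q fun z hz => (h z hz).trans rfl, map_zero]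
  rfl

theorem exists_of_op_ne_zero {a : AlgebraicCycle X ℤ} {s : ℕ} {q : P}
    (h : op hc hd hL t ht s a q ≠ 0) : ∃ z, z ⤳ p q ∧ a z ≠ 0 := by
  by_contra! H
  exact h (op_eq_zero hc hd hL t ht s q H)

end

end Groth.Agent.Proj83.Ops
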