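import Groth.Agent.Proj83.AffineVanish
import Groth.Agent.Proj83.AffineTop
import Groth.Agent.Proj83.Kill

/-!
The fibres of affine space over an affine scheme.
-/

set_option autoImplicit false
set_option linter.style.haveILetI false

universe u

open CategoryTheory AlgebraicGeometry TopologicalSpace
open MvPolynomial (C)

namespace Groth.Agent.Proj83.PolyFib

open Groth.Agent PolyPts

noncomputable section

variable {R : Type u} [CommRing R] (σ : Type) (ζ : Spec (CommRingCat.of R))

/-- Affine space over `Spec R`. -/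
abbrev space (R : Type u) [CommRing R] (σ : Type) : Spec (CommRingCat.of (MvPolynomial σ R)) ⟶ Spec (CommRingCat.of R) :=
  Spec.map (CommRingCat.ofHom (C : R →+* MvPolynomial σ R))

/-- Restriction of polynomials to a fibre. -/
abbrev res : MvPolynomial σ R →+* MvPolynomial σ ((Spec (CommRingCat.of R)).residueField ζ) :=
  MvPolynomial.map (evr ζ)

/-- The inclusion of a fibre. -/
def fib : Spec (CommRingCat.of (MvPolynomial σ ((Spec (CommRingCat.of R)).residueField ζ))) ⟶
    Spec (CommRingCat.of (MvPolynomial σ R)) :=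
  Spec.map (CommRingCat.ofHom (res σ ζ))

/-- Denominators can be cleared by constants. -/
theorem exists_clear (x : MvPolynomial σ ((Spec (CommRingCat.of R)).residueField ζ)) :
    ∃ (G : MvPolynomial σ R) (s : R), evr ζ s ≠ 0 ∧ C (evr ζ s) * x = res σ ζ G := by
  induction x using MvPolynomial.induction_on with
  | C c =>
    obtain ⟨a, s, hs, h⟩ := evr_clear ζ c
    exact ⟨C a, s, hs, by rw [MvPolynomial.map_C, ← map_mul, mul_comm, h]⟩
  | add x y hx hy =>
    obtain ⟨G, s, hs, h⟩ := hx
    obtain ⟨G', s', hs', h'⟩ := hy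
    refine ⟨C s' * G + C s * G', s * s', by rw [map_mul]; exact mul_ne_zero hs hs', ?_⟩
    simp only [map_add, map_mul, MvPolynomial.map_C]
    rw [← h, ← h']
    ring
  | mul_X x j hx =>
    obtain ⟨G, s, hs, h⟩ := hx
    refine ⟨G * MvPolynomial.X j, s, hs, ?_⟩
    rw [map_mul, ← h, MvPolynomial.map_X]
    ring

theorem isPreimmersion_fib : IsPreimmersion (fib σ ζ) := by
  refine IsPreimmersion.mk_SpecMap (isEmbedding_comap_of_exists_unit fun x => ?_)
    (RingHom.surjectiveOnStalks_of_exists_div fun x => ?_)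
  · obtain ⟨G, s, hs, h⟩ := exists_clear σ ζ x
    exact ⟨G, C (evr ζ s), (isUnit_iff_ne_zero.2 hs).map C, h⟩
  · obtain ⟨G, s, hs, h⟩ := exists_clear σ ζ x
    exact ⟨G, C s, by show IsUnit (res σ ζ (C s)); rw [MvPolynomial.map_C]; exact (isUnit_iff_ne_zero.2 hs).map C,
      by show res σ ζ (C s) * x = _; rw [MvPolynomial.map_C]; exact h⟩

theorem isPreimmersion_evr : IsPreimmersion (Spec.map (CommRingCat.ofHom (evr ζ))) := by
  refine IsPreimmersion.mk_SpecMap (isEmbedding_comap_of_exists_unit fun x => ?_)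
    (RingHom.surjectiveOnStalks_of_exists_div fun x => ?_)
  · obtain ⟨a, s, hs, h⟩ := evr_clear ζ x
    exact ⟨a, evr ζ s, isUnit_iff_ne_zero.2 hs, by show evr ζ s * x = evr ζ a; rw [mul_comm]; exact h⟩
  · obtain ⟨a, s, hs, h⟩ := evr_clear ζ x
    exact ⟨a, s, isUnit_iff_ne_zero.2 hs, by show evr ζ s * x = evr ζ a; rw [mul_comm]; exact h⟩

theorem fib_space : fib σ ζ ≫ space R σ =
    Spec.map (CommRingCat.ofHom (C : (Spec (CommRingCat.of R)).residueField ζ →+*
      MvPolynomial σ ((Spec (CommRingCat.of R)).residueField ζ))) ≫ Spec.map (CommRingCat.ofHom (evr ζ)) := by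
  rw [fib, ← Spec.map_comp, ← Spec.map_comp]
  congr 1
  exact CommRingCat.hom_ext (RingHom.ext fun r => MvPolynomial.map_C _ r)

theorem evr_apply (w : Spec ((Spec (CommRingCat.of R)).residueField ζ)) :
    Spec.map (CommRingCat.ofHom (evr ζ)) w = ζ := by
  refine eq_of_idl_eq ?_
  rw [idl_map, (Ideal.eq_bot_or_top (idl w)).resolve_right (Ideal.IsPrime.ne_top inferInstance)]
  ext r
  exact evr_eq_zero_iff ζ r

theorem space_fib (w : Spec (CommRingCat.of (MvPolynomial σ ((Spec (CommRingCat.of R)).residueField ζ)))) :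
    space R σ (fib σ ζ w) = ζ := by
  rw [← Scheme.Hom.comp_apply, fib_space, Scheme.Hom.comp_apply]
  exact evr_apply ζ _

theorem mem_range_fib {q : Spec (CommRingCat.of (MvPolynomial σ R))} (hq : space R σ q = ζ) :
    q ∈ Set.range (fib σ ζ) := by
  have hbase : idl ζ = (idl q).comap C := by rw [← hq, idl_map]
  have key : ∀ x ∈ (idl q).map (res σ ζ), ∃ G s, evr ζ s ≠ 0 ∧ G ∈ idl q ∧ C (evr ζ s) * x = res σ ζ G := by
    intro x hx
    induction hx using Submodule.span_induction with
    | mem x hx => obtain ⟨G, hG, rfl⟩ := hx; exact ⟨G, 1, by simp, hG, by simp⟩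
    | zero => exact ⟨0, 1, by simp, (idl q).zero_mem, by simp⟩
    | add x y _ _ hx hy =>
      obtain ⟨G, s, hs, hG, hx⟩ := hx
      obtain ⟨G', s', hs', hG', hy⟩ := hy
      refine ⟨C s' * G + C s * G', s * s', by rw [map_mul]; exact mul_ne_zero hs hs',
        (idl q).add_mem ((idl q).mul_mem_left _ hG) ((idl q).mul_mem_left _ hG'), ?_⟩
      simp only [map_add, map_mul, MvPolynomial.map_C]
      rw [← hx, ← hy]
      ring
    | smul c x _ hx =>
      obtain ⟨G, s, hs, hG, hx⟩ := hx
      obtain ⟨G', s', hs', hc⟩ := exists_clear σ ζ c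
      refine ⟨G' * G, s' * s, by rw [map_mul]; exact mul_ne_zero hs' hs, (idl q).mul_mem_left _ hG, ?_⟩
      rw [smul_eq_mul, map_mul (evr ζ), map_mul C, map_mul (res σ ζ), ← hx, ← hc]
      ring
  obtain ⟨Q, hQ⟩ := (PrimeSpectrum.mem_range_comap_iff (f := res σ ζ)
      (p := (show PrimeSpectrum (MvPolynomial σ R) from q))).2 <| by
    refine le_antisymm (fun a ha => ?_) Ideal.le_comap_map
    obtain ⟨G, s, hs, hG, h⟩ := key _ (Ideal.mem_comap.1 ha)
    have hker : RingHom.ker (res σ ζ) ≤ idl q := by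
      rw [MvPolynomial.ker_map, Ideal.map_le_iff_le_comap, ← hbase]
      exact fun r hr => (evr_eq_zero_iff ζ r).1 hr
    have h0 : C s * a - G ∈ idl q := hker (by
      rw [RingHom.mem_ker, map_sub, map_mul, MvPolynomial.map_C, h, sub_self])
    have h1 : C s * a ∈ idl q := by simpa using (idl q).add_mem h0 hG
    refine (Ideal.IsPrime.mem_or_mem inferInstance h1).resolve_left fun h2 => hs ?_
    rw [evr_eq_zero_iff, hbase, Ideal.mem_comap]
    exact h2
  exact ⟨Q, hQ⟩

/-- The fibre is reduced at its generic point. -/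
theorem map_maximalIdeal_fib :
    (IsLocalRing.maximalIdeal ((Spec (CommRingCat.of R)).presheaf.stalk
        (space R σ (fib σ ζ (affineGen _ σ))))).map ((space R σ).stalkMap (fib σ ζ (affineGen _ σ))).hom =
      IsLocalRing.maximalIdeal ((Spec (CommRingCat.of (MvPolynomial σ R))).presheaf.stalk
        (fib σ ζ (affineGen _ σ))) := by
  set q := fib σ ζ (affineGen _ σ) with hqdef
  have hidl : idl q = (idl ζ).map (C : R →+* MvPolynomial σ R) := by
    rw [hqdef, fib, idl_map]
    show (⊥ : Ideal _).comap (res σ ζ) = _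
    rw [← RingHom.ker_eq_comap_bot, MvPolynomial.ker_map]
    congr 1
    ext r
    exact evr_eq_zero_iff ζ r
  refine le_antisymm (Ideal.map_le_iff_le_comap.2 fun a ha => map_nonunit ((space R σ).stalkMap q).hom a ha) ?_
  rw [maximalIdeal_toStk, maximalIdeal_toStk, hidl, Ideal.map_map, Ideal.map_map, Ideal.map_le_iff_le_comap]
  intro r hr
  rw [Ideal.mem_comap, RingHom.comp_apply, ← stalkMap_toStk]
  exact Ideal.mem_map_of_mem (((space R σ).stalkMap q).hom.comp (toStk R (space R σ q)))
    (by rw [show space R σ q = ζ from space_fib σ ζ _]; exact hr)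

end

end Groth.Agent.Proj83.PolyFib
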