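import Groth.Agent.Proj83.Exact
import Groth.Agent.Proj83.Iter

/-!
`p_*(c₁(O(1))^s ∩ p^* α)` is `0` below the fibre dimension and `α` at the fibre dimension.
-/

set_option autoImplicit false
set_option linter.style.haveILetI false

universe u

open CategoryTheory AlgebraicGeometry

namespace Groth.Agent.Proj83.Atlas

open Groth.Agent H23

noncomputable section

variable {X P : Scheme.{u}} {p : P ⟶ X} {O : P.Modules} {n : ℕ} (𝔄 : Atlas p O n) {δ : X → ℤ} {δP : P → ℤ}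

include 𝔄 in
theorem map_iter [IsProper p] (hX : Cyc.IsSetup X δ) (hP : Cyc.IsSetup P δP) (hδ : Cyc.DeltaCompat p δP δ)
    (hO : PicF.IsInvertible O) {k : ℤ} {α : AlgebraicCycle X ℤ} (hα : α ∈ Cyc.Zk X δ k)
    {t : ℕ → (ξ : P) → Cyc.secFibre O ξ} (ht : ∀ i ξ, t i ξ ≠ 0) {γ : ℕ → P → ℤ}
    (h0 : γ 0 = Cyc.pullFun p δP δ (n : ℤ) ⇑α) (hs : ∀ i, γ (i + 1) = Cyc.c1CapFun δP O (γ i) (t i))
    (s : Fin (n + 1)) {β : AlgebraicCycle P ℤ} (hβ : ⇑β = γ s) :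
    Cyc.RatEquiv δ (k + n - (s : ℕ)) (AlgebraicCycle.map p δP δ β) (if (s : ℕ) = n then α else 0) := by
  classical
  haveI := hX.1
  haveI := hP.1
  haveI := 𝔄.flat
  have hd := hP.2.2
  have hc := 𝔄.hasShift hδ hd
  let Γ0 := FlatClass.pullCycle hc hd α
  have hΓ0 : Γ0 ∈ Cyc.Zk P δP (k + n) := FlatClass.pullCycle_mem hc hd hα rfl
  obtain ⟨Γ, hΓ, hΓs⟩ := Iter.exists_iter hO hd Γ0 ht
  have hγ : ∀ i, γ i = ⇑(Γ i) := fun i => by
    induction i with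
    | zero => rw [h0, hΓ]; rfl
    | succ i ih => rw [hs, hΓs, ih]
  obtain rfl : β = Γ s := DFunLike.coe_injective (hβ.trans (hγ s))
  obtain ⟨t', ht', hsp⟩ := 𝔄.exists_sp (t 0) (ht 0)
  obtain ⟨Γ', hΓ', hΓs'⟩ := Iter.exists_iter hO hd Γ0 ht'
  have h1 := Iter.iter_congr hO hd (Γ := Γ) (Γ' := Γ') (hΓ' ▸ hΓ0) (by rw [hΓ, hΓ']; exact Iter.refl _ _ _)
    ht ht' hΓs hΓs' s
  have h2 := CycLib.ratEquiv_map p hP hX hδ h1
  have h3 : AlgebraicCycle.map p δP δ (Γ' s) = if (s : ℕ) = n then α else 0 := by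
    refine DFunLike.coe_injective (funext fun y => ?_)
    rw [𝔄.map_exact hδ hd hX.2.2 hO (k := k) (α := ⇑α) hα hsp (γ := fun i => ⇑(Γ' i)) (by rw [hΓ']; rfl) hΓs' s rfl
      (fun q hq => Iter.iter_mem (hΓ'.symm ▸ hΓ0) hΓs' s q hq) y]
    split_ifs <;> rfl
  exact h3 ▸ h2

end

end Groth.Agent.Proj83.Atlas
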