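import Groth.Agent.Proj83.Exact
import Groth.Agent.Eg2Bundle.Quot
import Groth.Agent.QCoh.LocFree

/-!
Coordinates on the projective bundle of a finite locally free module given as a relative `Proj`.
-/

set_option autoImplicit false
set_option linter.style.haveILetI false
set_option backward.isDefEq.respectTransparency false
set_option backward.isDefEq.respectTransparency.types false

universe u

open CategoryTheory AlgebraicGeometry TopologicalSpace Opposite HomogeneousLocalization
open Groth.Agent.AModX Groth.Agent.Eg2Sym Groth.Agent.Eg2Bundle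
open scoped HomogeneousIdeal

noncomputable section

namespace Groth.Agent.Proj83.RelChart

variable {Y : Scheme.{u}} {E : Y.Modules} {𝒮 : RelProj.QCGrAlg Y} {j : E ⟶ 𝒮.toModule}
  (hj : RelProj.IsGrSymAlg E 𝒮 j) {U : Y.Opens} (hU : IsAffineOpen U) (e : Γ(E, U))

/-- The constants of a chart ring. -/
def cstHom : Γ(Y, U) →+* CR j hU e :=
  (fromZeroRingHom (𝒮.deg U hU) _).comp (𝒮.strZero U hU).hom

theorem cstHom_apply (r : Γ(Y, U)) : cstHom hU e r = cst hj hU e r := by
  refine val_injective _ ?_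
  rw [cst, Away.val_mk]
  show (fromZeroRingHom (𝒮.deg U hU) _ ⟨(𝒮.str.app (op U)).hom r, 𝒮.str_mem U hU r⟩).val = _
  rw [fromZeroRingHom]
  simp

theorem gen1_add (x y : Γ(E, U)) : gen1 hj hU e (x + y) = gen1 hj hU e x + gen1 hj hU e y := by
  refine val_injective _ ?_
  rw [val_add, gen1, gen1, gen1, Away.val_mk, Away.val_mk, Away.val_mk, Localization.add_mk_self, map_add]

/-- `x ↦ j x / j e`, additive. -/
def gen1Hom : Γ(E, U) →+ CR j hU e := AddMonoidHom.mk' (gen1 hj hU e) (gen1_add hj hU e)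

theorem gen1_smul (r : Γ(Y, U)) (x : Γ(E, U)) :
    gen1 hj hU e (r • x) = cst hj hU e r * gen1 hj hU e x := by
  refine val_injective _ ?_
  rw [val_mul, gen1, gen1, cst, Away.val_mk, Away.val_mk, Away.val_mk, Localization.mk_mul, jApp_smul]
  exact Localization.mk_eq_mk_iff.mpr (Localization.r_of_eq (by simp))

variable {n : ℕ} (b : Module.Basis (Fin (n + 1)) Γ(Y, U) Γ(E, U)) (m : Fin (n + 1))

/-- The coordinates of a chart. -/
def fromPoly : MvPolynomial (CIdx n m) Γ(Y, U) →+* CR j hU (b m) :=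
  MvPolynomial.eval₂Hom (cstHom hU (b m)) fun i => gen1 hj hU (b m) (b i.1)

theorem fromPoly_coordT (i : Fin (n + 1)) : fromPoly hj hU b m (coordT _ m i) = gen1 hj hU (b m) (b i) := by
  by_cases h : i = m
  · subst h
    rw [coordT_self, map_one, gen1_self]
  · rw [coordT_ne h, fromPoly, MvPolynomial.eval₂Hom_X']

theorem gen1_repr (x : Γ(E, U)) :
    gen1 hj hU (b m) x = ∑ i, cst hj hU (b m) (b.repr x i) * gen1 hj hU (b m) (b i) := by
  conv_lhs => rw [← b.sum_repr x]
  show gen1Hom hj hU (b m) _ = _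
  rw [map_sum]
  exact Finset.sum_congr rfl fun i _ => gen1_smul hj hU (b m) _ _

include hj in
theorem fromPoly_bijective (hE : Coh.IsQCoh E) : Function.Bijective (fromPoly hj hU b m) := by
  let T := MvPolynomial (CIdx n m) Γ(Y, U)
  let f : Γ(E, U) →+ T := AddMonoidHom.mk' (fun x => ∑ i, MvPolynomial.C (b.repr x i) * coordT _ m i)
    fun x y => by
      rw [← Finset.sum_add_distrib]
      exact Finset.sum_congr rfl fun i _ => by rw [map_add, Finsupp.add_apply, map_add, add_mul]
  obtain ⟨g, hgs, hgj⟩ := (Eg2Sym.isAffSym_of_isSymAlg hE hj.1 U hU).exists_lift (R := CommRingCat.of T)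
    MvPolynomial.C f fun r x => by
      show ∑ i, MvPolynomial.C (b.repr (r • x) i) * coordT _ m i =
        MvPolynomial.C r * ∑ i, MvPolynomial.C (b.repr x i) * coordT _ m i
      rw [Finset.mul_sum]
      exact Finset.sum_congr rfl fun i _ => by
        rw [map_smul, Finsupp.smul_apply, smul_eq_mul, map_mul, mul_assoc]
  have hb : ∀ i, f (b i) = coordT _ m i := fun i => by
    show ∑ k, MvPolynomial.C (b.repr (b i) k) * coordT _ m k = _
    rw [Finset.sum_eq_single i (fun k _ hk => by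
      rw [b.repr_self, Finsupp.single_eq_of_ne hk, map_zero, zero_mul]) (fun h => absurd (Finset.mem_univ i) h),
      b.repr_self, Finsupp.single_eq_same, map_one, one_mul]
  have hu : IsUnit (g.hom (jApp (A := 𝒮.toQCAlg) j U (b m))) := by
    rw [hgj, hb, coordT_self]
    exact isUnit_one
  let L : Localization (Submonoid.powers (jApp (A := 𝒮.toQCAlg) j U (b m))) →+* T :=
    IsLocalization.Away.lift (jApp (A := 𝒮.toQCAlg) j U (b m)) hu
  let inv : CR j hU (b m) →+* T := L.comp (algebraMap _ _)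
  have hinv : ∀ (d : ℕ) a ha, inv (Away.mk (𝒮.deg U hU) (jApp_mem_one hj hU (b m)) d a ha) = g.hom a := by
    intro d a ha
    show L (Away.mk (𝒮.deg U hU) (jApp_mem_one hj hU (b m)) d a ha).val = _
    rw [Away.val_mk, Localization.mk_eq_mk']
    refine (IsLocalization.lift_mk'_spec _ _ _ _).2 ?_
    show g.hom a = g.hom (jApp (A := 𝒮.toQCAlg) j U (b m) ^ d) * g.hom a
    rw [map_pow, hgj, hb, coordT_self, one_pow]
    exact (one_mul _).symm
  have h1 : inv.comp (fromPoly hj hU b m) = RingHom.id T := by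
    refine MvPolynomial.ringHom_ext (fun r => ?_) fun i => ?_
    · rw [RingHom.comp_apply, fromPoly, MvPolynomial.eval₂Hom_C, cstHom_apply hj, cst, hinv, hgs]
      rfl
    · rw [RingHom.comp_apply, fromPoly, MvPolynomial.eval₂Hom_X', gen1, hinv, hgj, hb, coordT_ne i.2]
      rfl
  have h2 : (fromPoly hj hU b m).comp inv = RingHom.id _ := by
    refine cr_hom_ext hj hU (b m) hE _ _ (fun r => ?_) fun x => ?_
    · rw [RingHom.comp_apply, cst, hinv, hgs, fromPoly, MvPolynomial.eval₂Hom_C, cstHom_apply hj]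
      rfl
    · rw [RingHom.comp_apply, gen1, hinv, hgj]
      show fromPoly hj hU b m (∑ i, MvPolynomial.C (b.repr x i) * coordT _ m i) = gen1 hj hU (b m) x
      rw [gen1_repr hj hU b m, map_sum]
      exact Finset.sum_congr rfl fun i _ => by
        rw [map_mul, fromPoly_coordT, fromPoly, MvPolynomial.eval₂Hom_C, cstHom_apply hj]
  exact ⟨fun a a' h => (congr($h1 a)).symm.trans ((congrArg inv h).trans congr($h1 a')),
    fun a => ⟨inv a, congr($h2 a)⟩⟩

variable {P : Scheme.{u}} {p : P ⟶ Y}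
  {chart : ∀ (U : Y.Opens) (hU : IsAffineOpen U), ((p ⁻¹ᵁ U : P.Opens) : Scheme.{u}) ≅ Proj (𝒮.deg U hU)}

include hj in
theorem isAffineOpen_genOpen : IsAffineOpen (genOpen j chart hU e) :=
  (Proj.isAffineOpen_basicOpen (𝒮.deg U hU) _ (jApp_mem_one hj hU e) one_pos).image_of_isOpenImmersion _

include hj in
theorem theta_bijective : Function.Bijective (theta (j := j) chart hU e) := by
  have : IsIso (Proj.awayToSection (𝒮.deg U hU) (jApp (A := 𝒮.toQCAlg) j U e)) := by
    rw [show Proj.awayToSection (𝒮.deg U hU) (jApp (A := 𝒮.toQCAlg) j U e) =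
      (Proj.basicOpenIsoAway (𝒮.deg U hU) _ (jApp_mem_one hj hU e) one_pos).hom from rfl]
    infer_instance
  exact ConcreteCategory.bijective_of_isIso
    (Proj.awayToSection (𝒮.deg U hU) (jApp (A := 𝒮.toQCAlg) j U e) ≫
      ((RelProj.emb p chart U hU).appIso (Proj.basicOpen _ (jApp (A := 𝒮.toQCAlg) j U e))).inv)

theorem theta_cst (hP : RelProj.IsRelProj 𝒮 p chart) (r : Γ(Y, U)) :
    theta chart hU e (cst hj hU e r) = (p.appLE U _ (genOpen_le (j := j) (chart := chart) hU e)).hom r :=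
  cst_of_proj (g := p) hj hP hU e _ (theta chart hU e)
    (congrArg (· ≫ p) (toSpecΓ_theta hj hU e)) r

include hj in
theorem basicOpen_gen1_le (e' : Γ(E, U)) :
    P.basicOpen (theta chart hU e (gen1 hj hU e e')) ≤ genOpen j chart hU e' := fun x hx => by
  have hx' : x ∈ genOpen j chart hU e := P.basicOpen_le _ hx
  have := (chartMap_mem_genOpen_iff (chart := chart) hj hU e (theta chart hU e) e' ⟨x, hx'⟩).2 hx
  rw [show chartMap chart hj hU e (theta chart hU e) = (genOpen j chart hU e).ι from toSpecΓ_theta hj hU e] at this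
  exact this

theorem exists_mem_genOpen_basis (hE : Coh.IsQCoh E) (hj : RelProj.IsGrSymAlg E 𝒮 j) (q : P) (hq : p q ∈ U) :
    ∃ m, q ∈ genOpen j chart hU (b m) := by
  obtain ⟨e, y, hye, rfl⟩ := Eg2Sym.exists_mem_genOpen (chart := chart) hE hj hU q hq
  let y' : ProjectiveSpectrum (𝒮.deg U hU) := y
  by_contra! H
  refine (show jApp (A := 𝒮.toQCAlg) j U e ∉ y'.asHomogeneousIdeal from hye) ?_
  rw [← b.sum_repr e, map_sum]
  refine sum_mem fun i _ => ?_
  rw [jApp_smul]
  refine Ideal.mul_mem_left y'.asHomogeneousIdeal.toIdeal _ ?_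
  by_contra hi
  exact H i ⟨y, hi, rfl⟩

variable {O1 : P.Modules}
  {lam : ∀ (U : Y.Opens) (hU : IsAffineOpen U),
    O1 ⟶ (Scheme.Modules.pushforward (RelProj.emb p chart U hU)).obj (GrTwist.twist (𝒮.deg U hU) 1)}

variable (j lam) in
/-- `s` is the section `j e` of `O(1)` over the preimage of `U`. -/
def IsSec (s : Γ(O1, p ⁻¹ᵁ U)) : Prop :=
  ∀ y : ↥(RelProj.emb p chart U hU ⁻¹ᵁ (p ⁻¹ᵁ U)),
    GrTwist.val (V := RelProj.emb p chart U hU ⁻¹ᵁ (p ⁻¹ᵁ U)) ((lam U hU).app (p ⁻¹ᵁ U) s) y =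
      algebraMap (𝒮.presheaf.obj (op U)) (GrTwist.Loc (𝒮.deg U hU) y.1)
        (jApp (A := 𝒮.toQCAlg) j U e)

include hj in
theorem exists_isSec (hO1 : RelProj.IsRelTwist 𝒮 p chart 1 O1 lam) :
    ∃ s : Γ(O1, p ⁻¹ᵁ U), IsSec j hU e lam s := by
  let g : Γ(GrTwist.twist (𝒮.deg U hU) 1, ⊤) :=
    GrTwist.globalOf (𝒜 := 𝒮.deg U hU) (⟨_, jApp_mem_one hj hU e⟩ : 𝒮.deg U hU 1)
  obtain ⟨s, hs⟩ := (hO1.bijective U hU _ le_rfl).2
    (show Γ((Scheme.Modules.pushforward (RelProj.emb p chart U hU)).obj (GrTwist.twist (𝒮.deg U hU) 1), p ⁻¹ᵁ U) from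
      res (GrTwist.twist (𝒮.deg U hU) 1) le_top g)
  exact ⟨s, fun y => by rw [hs]; exact Localization.mk_one_eq_algebraMap _⟩

variable {hU e}

include hj in
theorem isFrame_of_isSec (hO1 : RelProj.IsRelTwist 𝒮 p chart 1 O1 lam) {s : Γ(O1, p ⁻¹ᵁ U)}
    (hs : IsSec j hU e lam s) :
    InvX.IsFrame (res O1 (genOpen_le (j := j) (chart := chart) hU e) s) := by
  set f : 𝒮.presheaf.obj (op U) := jApp (A := 𝒮.toQCAlg) j U e with hf
  let D := Proj.basicOpen (𝒮.deg U hU) f
  let ψ := GrTwistX.powFrac (𝒜 := 𝒮.deg U hU) (U := D) (jApp_mem_one hj hU e : f ∈ 𝒮.deg U hU 1)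
    SetLike.GradedOne.one_mem (zero_add 1).symm 1 (fun x => x.2)
    (fun x h => x.1.isPrime.ne_top ((Ideal.eq_top_iff_one _).mpr h))
  let ψ' : GrTwistX.UnitFrac (𝒜 := 𝒮.deg U hU) 1 D := ψ
  obtain ⟨t, ht, hval⟩ := Eg2Rel.exists_frame_frac hO1 hU ψ'
  suffices heq : res O1 (genOpen_le (j := j) (chart := chart) hU e) s = t from heq ▸ ht
  refine (hO1.bijective U hU _ (genOpen_le (j := j) (chart := chart) hU e)).1 ?_
  refine Subtype.ext (funext fun y => Subtype.ext ?_)
  obtain ⟨y, hy⟩ := y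
  have hy' : y ∈ D := by
    have h := hy
    change (RelProj.emb p chart U hU).base y ∈ (RelProj.emb p chart U hU ''ᵁ D : Set P) at h
    rw [Scheme.Hom.coe_image, (RelProj.emb p chart U hU).isOpenEmbedding.injective.mem_set_image] at h
    exact h
  show GrTwist.val (V := RelProj.emb p chart U hU ⁻¹ᵁ genOpen j chart hU e)
      ((lam U hU).app (genOpen j chart hU e) _) ⟨y, hy⟩ =
    GrTwist.val (V := RelProj.emb p chart U hU ⁻¹ᵁ genOpen j chart hU e)
      ((lam U hU).app (genOpen j chart hU e) t) ⟨y, hy⟩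
  rw [Eg2Rel.val_app_res hU (lam U hU) (genOpen_le (j := j) (chart := chart) hU e)]
  refine (hs ⟨y, _⟩).trans ((?_ : _ = _).trans (hval y hy hy').symm)
  show algebraMap _ _ f = _
  rw [← Localization.mk_one_eq_algebraMap]
  refine Localization.mk_eq_mk_iff.mpr (Localization.r_of_eq ?_)
  simp [ψ', ψ, GrTwistX.powFrac]
  rfl

include hj in
set_option maxHeartbeats 1600000 in
theorem coord_of_isSec (hO1 : RelProj.IsRelTwist 𝒮 p chart 1 O1 lam) {x : Γ(E, U)} {s t : Γ(O1, p ⁻¹ᵁ U)}
    (hs : IsSec j hU e lam s) (ht : IsSec j hU x lam t) :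
    res O1 (genOpen_le (j := j) (chart := chart) hU e) t =
      theta chart hU e (gen1 hj hU e x) • res O1 (genOpen_le (j := j) (chart := chart) hU e) s := by
  set f : 𝒮.presheaf.obj (op U) := jApp (A := 𝒮.toQCAlg) j U e with hf
  refine (hO1.bijective U hU _ (genOpen_le (j := j) (chart := chart) hU e)).1 ?_
  refine Subtype.ext (funext fun y => Subtype.ext ?_)
  obtain ⟨y, hy⟩ := y
  have hy' : y ∈ Proj.basicOpen (𝒮.deg U hU) f := by
    have h := hy
    change (RelProj.emb p chart U hU).base y ∈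
      (RelProj.emb p chart U hU ''ᵁ Proj.basicOpen (𝒮.deg U hU) f : Set P) at h
    rw [Scheme.Hom.coe_image, (RelProj.emb p chart U hU).isOpenEmbedding.injective.mem_set_image] at h
    exact h
  show GrTwist.val (V := RelProj.emb p chart U hU ⁻¹ᵁ genOpen j chart hU e)
      ((lam U hU).app (genOpen j chart hU e) _) ⟨y, hy⟩ =
    GrTwist.val (V := RelProj.emb p chart U hU ⁻¹ᵁ genOpen j chart hU e)
      ((lam U hU).app (genOpen j chart hU e) _) ⟨y, hy⟩
  rw [Scheme.Modules.Hom.app_smul]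
  rw [Eg2Rel.val_app_res hU (lam U hU) (genOpen_le (j := j) (chart := chart) hU e)]
  refine Eq.trans (ht ⟨y, _⟩) ?_
  have e1 : GrTwist.val (V := RelProj.emb p chart U hU ⁻¹ᵁ genOpen j chart hU e)
      ((lam U hU).app (genOpen j chart hU e) (res O1 (genOpen_le (j := j) (chart := chart) hU e) s)) ⟨y, hy⟩ =
      algebraMap _ _ f := by
    rw [Eg2Rel.val_app_res hU (lam U hU) (genOpen_le (j := j) (chart := chart) hU e)]
    exact hs ⟨y, _⟩
  refine Eq.trans ?_ (GrTwist.coe_smul_val 1 y _ _).symm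
  have e2 : (RelProj.emb p chart U hU).app (genOpen j chart hU e) (theta chart hU e (gen1 hj hU e x)) =
      (Proj (𝒮.deg U hU)).presheaf.map
        (eqToHom ((RelProj.emb p chart U hU).preimage_image_eq (Proj.basicOpen (𝒮.deg U hU) f))).op
        (Proj.awayToSection (𝒮.deg U hU) f (gen1 hj hU e x)) :=
    congr($((RelProj.emb p chart U hU).appIso_inv_app (Proj.basicOpen (𝒮.deg U hU) f))
      (Proj.awayToSection (𝒮.deg U hU) f (gen1 hj hU e x)))
  have e3 : (((RelProj.emb p chart U hU).app (genOpen j chart hU e)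
      (theta chart hU e (gen1 hj hU e x))).1 ⟨y, hy⟩).val =
      Localization.mk (jApp (A := 𝒮.toQCAlg) j U x) ⟨f, hy'⟩ := by
    rw [e2]
    show ((Proj.awayToSection (𝒮.deg U hU) f (gen1 hj hU e x)).1 ⟨y, hy'⟩).val = _
    refine (ProjectiveSpectrum.Proj.awayToSection_apply (𝒮.deg U hU) f (gen1 hj hU e x) ⟨y, hy'⟩).trans ?_
    rw [gen1, Away.val_mk, Localization.mk_eq_mk', IsLocalization.map_mk', ← Localization.mk_eq_mk']
    exact Localization.mk_eq_mk_iff.mpr (Localization.r_of_eq (by simp [hf]))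
  refine Eq.trans ?_ (congrArg₂ (fun a b : GrTwist.Loc (𝒮.deg U hU) y => a * b) e3 e1).symm
  show algebraMap (𝒮.presheaf.obj (op U)) (GrTwist.Loc (𝒮.deg U hU) y) (jApp (A := 𝒮.toQCAlg) j U x) =
    Localization.mk (jApp (A := 𝒮.toQCAlg) j U x) ⟨f, hy'⟩ *
      algebraMap (𝒮.presheaf.obj (op U)) (GrTwist.Loc (𝒮.deg U hU) y) f
  rw [← Localization.mk_one_eq_algebraMap, ← Localization.mk_one_eq_algebraMap, Localization.mk_mul]
  exact Localization.mk_eq_mk_iff.mpr (Localization.r_of_eq (by simp [mul_comm]))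

include hj in
/-- Coordinates on the bundle over an affine open with a basis of sections. -/
theorem exists_chart (hE : Coh.IsQCoh E) (hP : RelProj.IsRelProj 𝒮 p chart)
    (hO1 : RelProj.IsRelTwist 𝒮 p chart 1 O1 lam) (hU : IsAffineOpen U)
    (b : Module.Basis (Fin (n + 1)) Γ(Y, U) Γ(E, U)) :
    ∃ C' : Chart p O1 n, C'.U = U := by
  choose x hx using fun i => exists_isSec (p := p) (chart := chart) hj hU (b i) hO1
  let co : ∀ m, MvPolynomial (CIdx n m) Γ(Y, U) ≃+* Γ(P, genOpen j chart hU (b m)) := fun m =>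
    (RingEquiv.ofBijective _ (fromPoly_bijective hj hU b m hE)).trans
      (RingEquiv.ofBijective _ (theta_bijective (chart := chart) hj hU (b m)))
  have hco : ∀ m i, co m (coordT _ m i) = theta chart hU (b m) (gen1 hj hU (b m) (b i)) := fun m i =>
    congrArg (theta chart hU (b m)) (fromPoly_coordT hj hU b m i)
  refine ⟨
    { U := U
      hU := hU
      V := fun m => genOpen j chart hU (b m)
      hV := fun m => isAffineOpen_genOpen hj hU (b m)
      le := fun m => genOpen_le hU (b m)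
      coord := co
      coord_C := fun m r => by
        show theta chart hU (b m) (fromPoly hj hU b m (MvPolynomial.C r)) = _
        rw [fromPoly, MvPolynomial.eval₂Hom_C, cstHom_apply hj]
        exact theta_cst hj hU (b m) hP r
      x := x
      frame := fun m => isFrame_of_isSec hj hO1 (hx m)
      x_eq := fun m i => by
        rw [hco]
        exact coord_of_isSec hj hO1 (hx m) (hx i)
      basicOpen_le := fun m m' => by
        rw [hco]
        exact basicOpen_gen1_le hj hU (b m') (b m)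
      cover := fun q hq => exists_mem_genOpen_basis hU b hE hj q hq }, rfl⟩

include hj in
/-- Coordinates around every point. -/
theorem exists_atlas (hE : Coh.IsQCoh E) {r : ℕ} (hr : r = n + 1) (hloc : FlatMod.IsFinLocFreeOfRank r E)
    (hP : RelProj.IsRelProj 𝒮 p chart) (hO1 : RelProj.IsRelTwist 𝒮 p chart 1 O1 lam) :
    Nonempty (Atlas p O1 n) := by
  subst hr
  have H : ∀ y : Y, ∃ C' : Chart p O1 n, y ∈ C'.U := by
    intro y
    obtain ⟨W, hyW, ⟨f⟩⟩ := hloc y
    obtain ⟨_, ⟨V, hV, rfl⟩, hyV, hle⟩ := Y.isBasis_affineOpens.exists_subset_of_mem_open hyW W.2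
    obtain ⟨l⟩ := QCoh.free_sections hV hle f
    obtain ⟨C', hC'⟩ := exists_chart (U := V) hj hE hP hO1 hV
      ((Module.Basis.ofRepr l).reindex Equiv.ulift)
    exact ⟨C', hC' ▸ hyV⟩
  choose C' hC' using H
  exact ⟨⟨C', hC'⟩⟩

end Groth.Agent.Proj83.RelChart
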