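import Groth.Agent.Proj83.Strata
import Groth.Agent.Proj83.AffineVanish
import Groth.Agent.FibDim.RelDim

/-!
The strata of a fibre of a projective bundle as preimmersed affine spaces.
-/

set_option autoImplicit false
set_option linter.style.haveILetI false

universe u

open CategoryTheory AlgebraicGeometry TopologicalSpace Opposite

namespace Groth.Agent.Proj83.Chart

open Groth.Agent.AModX
open MvPolynomial (C)

noncomputable section

variable {S P : Scheme.{u}} {p : P ⟶ S} {O : P.Modules} {n : ℕ} (C' : Chart p O n)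

/-- Vanishing of the first coordinates passes to specialisations. -/
theorem F_specializes {y : S} {i : ℕ} {a q : P} (ha : a ∈ C'.F y i) (h : a ⤳ q) (hq : p q = y) :
    q ∈ C'.F y i := by
  refine ⟨hq, fun j hqU hj => ?_⟩
  by_contra hne
  have hqj := C'.mem_V hne
  have haj := h.mem_open (C'.V j).2 hqj
  exact C'.xs_self_ne_zero haj (ha.2 j _ hj)

variable (y : S) (hy : y ∈ C'.U) (i : Fin (n + 1))

/-- The affine space of a stratum. -/
abbrev strW : Scheme.{u} := Spec (CommRingCat.of (MvPolynomial (SIdx n (i : ℕ) i) (S.residueField y)))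

/-- The inclusion of a stratum in the coordinate ring of the chart. -/
def strChart : strW (n := n) y i ⟶ Spec Γ(P, C'.V i) :=
  Spec.map (CommRingCat.ofHom ((killHom (C'.bev y hy) (i : ℕ) i).comp (C'.coord i).symm.toRingHom))

/-- A stratum of a fibre. -/
def str : strW (n := n) y i ⟶ P := C'.strChart y hy i ≫ (C'.hV i).fromSpec

theorem isPreimmersion_str : IsPreimmersion (C'.str y hy i) := by
  have h1 : ((killHom (C'.bev y hy) (i : ℕ) i).comp (C'.coord i).symm.toRingHom).SurjectiveOnStalks :=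
    (surjectiveOnStalks_killHom _ (C'.bev_clear y hy) (i : ℕ) i).comp
      (RingHom.surjectiveOnStalks_of_surjective (C'.coord i).symm.surjective)
  have h2 : Topology.IsEmbedding
      (PrimeSpectrum.comap ((killHom (C'.bev y hy) (i : ℕ) i).comp (C'.coord i).symm.toRingHom)) :=
    isEmbedding_comap_of_exists_unit fun x => by
      obtain ⟨r, s, hs, h⟩ := exists_clear (C'.bev y hy) (C'.bev_clear y hy) (i : ℕ) i x
      exact ⟨C'.coord i r, C (C'.bev y hy s), (isUnit_iff_ne_zero.2 hs).map C, by simpa using h⟩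
  haveI : IsPreimmersion (C'.strChart y hy i) := IsPreimmersion.mk_SpecMap h2 h1
  exact inferInstanceAs (IsPreimmersion (C'.strChart y hy i ≫ (C'.hV i).fromSpec))

theorem str_mem (w : strW (n := n) y i) : C'.str y hy i w ∈ C'.V i :=
  (C'.hV i).range_fromSpec.subset ⟨C'.strChart y hy i w, rfl⟩

theorem pr_str (w : strW (n := n) y i) :
    C'.pr i (C'.str y hy i w) (C'.str_mem y hy i w) = (idl w).comap (killHom (C'.bev y hy) (i : ℕ) i) := by
  rw [pr_eq]
  have : (C'.hV i).primeIdealOf ⟨_, C'.str_mem y hy i w⟩ = C'.strChart y hy i w :=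
    (C'.hV i).fromSpec.isOpenEmbedding.injective ((C'.hV i).fromSpec_primeIdealOf ⟨_, C'.str_mem y hy i w⟩)
  rw [this]
  ext a
  show killHom (C'.bev y hy) (i : ℕ) i ((C'.coord i).symm (C'.coord i a)) ∈ idl w ↔ _
  rw [RingEquiv.symm_apply_apply, Ideal.mem_comap]

theorem str_mem_F (w : strW (n := n) y i) : C'.str y hy i w ∈ C'.F y (i : ℕ) := by
  refine ⟨C'.apply_eq_of_C_mem (C'.str_mem y hy i w) hy fun r => ?_, fun j _ hj => ?_⟩
  · rw [pr_str, Ideal.mem_comap, killHom_C]
    refine ⟨fun h => by_contra fun hne => ?_, fun h => by rw [h, map_zero]; exact Ideal.zero_mem _⟩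
    exact Ideal.IsPrime.ne_top inferInstance (Ideal.eq_top_of_isUnit_mem _ h ((isUnit_iff_ne_zero.2 hne).map C))
  · rw [C'.xs_eq_zero_iff (C'.str_mem y hy i w), pr_str, Ideal.mem_comap, killHom_coordT_of_lt _ le_rfl hj]
    exact Ideal.zero_mem _

theorem apply_str (w : strW (n := n) y i) : p (C'.str y hy i w) = y := (C'.str_mem_F y hy i w).1

theorem mem_range_str {q : P} (hF : q ∈ C'.F y (i : ℕ)) (hq : q ∈ C'.V i) : q ∈ Set.range (C'.str y hy i) := by
  obtain ⟨Q, hQ, hQP⟩ := exists_prime_killHom (C'.bev y hy) (C'.bev_clear y hy) (C'.pr i q hq)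
    (ker_le_pr hy le_rfl hq hF) (fun s hs hmem => hs (by
      obtain ⟨rfl, -⟩ := hF
      exact (C'.C_mem_pr hq s).1 hmem))
  let w : strW (n := n) y i := (⟨Q, hQ⟩ : PrimeSpectrum _)
  exact ⟨w, C'.pr_injective (C'.str_mem y hy i w) hq ((pr_str C' y hy i w).trans hQP)⟩

theorem str_p :
    C'.str y hy i ≫ p =
      Spec.map (CommRingCat.ofHom (MvPolynomial.C : S.residueField y →+* MvPolynomial (SIdx n (i : ℕ) i) (S.residueField y))) ≫
        S.fromSpecResidueField y := by
  rw [str, Category.assoc, ← IsAffineOpen.SpecMap_appLE_fromSpec p C'.hU (C'.hV i) (C'.le i), strChart,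
    ← Spec.map_comp_assoc, Scheme.fromSpecResidueField, ← C'.hU.fromSpecStalk_eq_fromSpecStalk hy,
    IsAffineOpen.fromSpecStalk, ← Spec.map_comp_assoc, ← Spec.map_comp_assoc]
  congr 2
  refine CommRingCat.hom_ext (RingHom.ext fun r => ?_)
  show killHom (C'.bev y hy) (i : ℕ) i ((C'.coord i).symm (p.appLE C'.U (C'.V i) (C'.le i) r)) = _
  rw [← C'.coord_C, RingEquiv.symm_apply_apply, killHom_C]
  rfl

theorem deltaCompat_str {δ : S → ℤ} {δP : P → ℤ} (hδ : Cyc.DeltaCompat p δP δ) :
    Cyc.DeltaCompat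
      (Spec.map (CommRingCat.ofHom (MvPolynomial.C : S.residueField y →+* MvPolynomial (SIdx n (i : ℕ) i) (S.residueField y))))
      (fun w => δP (C'.str y hy i w)) (fun _ => δ y) := by
  haveI := C'.isPreimmersion_str y hy i
  intro w
  obtain ⟨k, hk, hδk⟩ := hδ (C'.str y hy i w)
  refine ⟨k, (FibDim.rdeg_congr_preimmersion (C'.str_p y hy i).symm w).trans hk, ?_⟩
  show δP (C'.str y hy i w) = δ y + k
  rw [hδk, C'.apply_str]

end

end Groth.Agent.Proj83.Chart
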