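import Groth.Agent.Proj83.Resolve
import Groth.Agent.Proj83.Stratum
import Groth.Agent.Proj83.Lift
import Groth.Agent.Proj83.Exact
import Groth.Agent.Proj83.Independent

/-!
The classes `c₁(O(1))^i ∩ p^* α_i`, `i ≤ n`, of a projective bundle span.
-/

set_option autoImplicit false
set_option linter.style.haveILetI false

universe u

open CategoryTheory AlgebraicGeometry TopologicalSpace

namespace Groth.Agent.Proj83

open Groth.Agent H23 Resolve

noncomputable section

variable {X P : Scheme.{u}} {p : P ⟶ X} {O : P.Modules} {n : ℕ}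

namespace Chart

variable (C' : Chart p O n)

/-- The first coordinate not vanishing at a point, beyond given vanishing ones. -/
theorem exists_first {y : X} (hy : y ∈ C'.U) {q : P} {i₀ : ℕ} (h : q ∈ C'.F y i₀) :
    ∃ i : Fin (n + 1), i₀ ≤ (i : ℕ) ∧ q ∈ C'.F y (i : ℕ) ∧ q ∈ C'.V i := by
  classical
  have hqU : p q ∈ C'.U := h.1.symm ▸ hy
  have hex : ∃ j, i₀ ≤ j ∧ q ∉ C'.F y (j + 1) :=
    ⟨max i₀ n, le_max_left _ _, fun hF => by
      obtain ⟨m, hm⟩ := C'.cover q hqU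
      exact C'.xs_self_ne_zero hm (hF.2 m _ (lt_of_lt_of_le m.2 (by omega)))⟩
  obtain ⟨h0, h1⟩ := Nat.find_spec hex
  have hF : q ∈ C'.F y (Nat.find hex) := by
    by_contra hn
    rcases eq_or_lt_of_le h0 with e | e
    · exact hn (e ▸ h)
    · exact Nat.find_min hex (m := Nat.find hex - 1) (by omega) ⟨by omega, by
        rwa [Nat.sub_add_cancel (by omega)]⟩
  have hlt : Nat.find hex < n + 1 := by
    by_contra hle
    obtain ⟨m, hm⟩ := C'.cover q hqU
    exact C'.xs_self_ne_zero hm (hF.2 m _ (lt_of_lt_of_le m.2 (not_lt.1 hle)))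
  refine ⟨⟨_, hlt⟩, h0, hF, C'.mem_V (hq := hqU) fun hx => h1 ?_⟩
  exact C'.mem_F_succ (i := ⟨_, hlt⟩) hF fun _ => hx

end Chart

variable {δ : X → ℤ} {δP : P → ℤ}

namespace Atlas

variable (𝔄 : Atlas p O n) [Flat p] [QuasiCompact p] [IsLocallyNoetherian X] [IsLocallyNoetherian P]
  (hdX : Cyc.IsDimFun X δ) (hd : Cyc.IsDimFun P δP) (hδ : Cyc.DeltaCompat p δP δ) (hO : PicF.IsInvertible O)
  {t : ℕ → (ξ : P) → Cyc.secFibre O ξ} (ht : ∀ i ξ, t i ξ ≠ 0)
  (hsp : ∀ (y : X) (i : Fin (n + 1)) (h : p (𝔄.Lp y i) ∈ (𝔄.C y).U),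
      t i (𝔄.Lp y i) = (𝔄.C y).xs i (𝔄.Lp y i) h)

include hdX hsp in
/-- A point is resolved when the points over specialisations of its image and those of later strata are. -/
theorem good_step {k : ℤ} {y : X} {η : P} {i : Fin (n + 1)} (hk : δP η = k + n)
    (hF : η ∈ (𝔄.C y).F y (i : ℕ)) (hV : η ∈ (𝔄.C y).V i)
    (hD : ∀ q : P, δP q = k + n → y ⤳ p q → p q ≠ y →
      Good (𝔄.hasShift hδ hd) hd hO t ht n k (closure {p q}) (pt q))
    (hE : ∀ (q : P) (i' : Fin (n + 1)), δP q = k + n → (i : ℕ) < (i' : ℕ) → q ∈ (𝔄.C y).F y (i' : ℕ) →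
      q ∈ (𝔄.C y).V i' → Good (𝔄.hasShift hδ hd) hd hO t ht n k (closure {y}) (pt q)) :
    Good (𝔄.hasShift hδ hd) hd hO t ht n k (closure {y}) (pt η) := by
  classical
  have hc := 𝔄.hasShift hδ hd
  have hy := 𝔄.mem y
  by_cases hη : η = 𝔄.Lp y i
  · have hδy : δ y = k + ((i : ℕ) : ℤ) := by
      have h1 := Chart.delta_L hy hδ hd i
      rw [show (𝔄.C y).L y hy i = η from hη.symm] at h1
      omega
    have hb : ptCycle y ∈ Cyc.Zk X δ (k + ((i : ℕ) : ℤ)) := hδy ▸ ptCycle_mem δ y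
    refine Good.add_op i hb (fun x hx => ?_) ?_
    · obtain rfl : x = y := by_contra fun e => hx (pt_ne e)
      exact subset_closure rfl
    let R : AlgebraicCycle P ℤ := ptCycle η - Ops.op hc hd hO t ht (i : ℕ) (ptCycle y)
    have hR : ⇑R = fun q => pt η q - Ops.op hc hd hO t ht (i : ℕ) (ptCycle y) q := by
      funext q
      rw [Function.locallyFinsuppWithin.coe_sub, Pi.sub_apply, coe_ptCycle]
    have hRmem : R ∈ Cyc.Zk P δP (k + n) := by
      refine (ChowOps.zk P δP _).sub_mem (hk ▸ ptCycle_mem δP η) ?_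
      have h := Ops.op_mem hc hd hO t ht hb (i : ℕ)
      rwa [show k + ((i : ℕ) : ℤ) + n - ((i : ℕ) : ℤ) = k + n by ring] at h
    have hzero : ∀ q, k + ((i : ℕ) : ℤ) ≤ δ (p q) → R q = 0 := by
      intro q hq
      have h1 := 𝔄.exact hδ hd hdX hO (α := ⇑(ptCycle y)) (fun z hz => hb z hz) hsp
        (γ := fun m => ⇑(Ops.op hc hd hO t ht m (ptCycle y))) rfl (fun m => rfl) i q hq
      rw [hR]
      show pt η q - _ = 0
      rw [h1, coe_ptCycle, sub_eq_zero]
      by_cases e : q = η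
      · subst e
        have : p q = y := hF.1
        rw [pt_self, this, if_pos hη, pt_self]
      · rw [pt_ne e]
        split_ifs with h2
        · rw [pt_ne fun h3 : p q = y => e (h2.trans ((congrArg (fun z => 𝔄.Lp z i) h3).trans hη.symm))]
        · rfl
    have hsupp : ∀ q, R q ≠ 0 → δ (p q) < k + ((i : ℕ) : ℤ) ∧ y ⤳ p q := by
      intro q hq
      refine ⟨not_le.1 fun h => hq (hzero q h), ?_⟩
      by_cases e : q = η
      · rw [e, hF.1]
      rw [hR] at hq
      replace hq : pt η q - Ops.op hc hd hO t ht (i : ℕ) (ptCycle y) q ≠ 0 := hq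
      rw [pt_ne e, zero_sub, neg_ne_zero] at hq
      obtain ⟨z, hz, hz0⟩ := Ops.exists_of_op_ne_zero hc hd hO t ht hq
      obtain rfl : z = y := by_contra fun e' => hz0 (pt_ne e')
      exact hz
    rw [← hR]
    exact good_of_points isClosed_closure (fun q hq => specializes_iff_mem_closure.1 (hsupp q hq).2) fun q hq =>
      hD q (by_contra fun h => hq (hRmem q h)) (hsupp q hq).2 fun e => by
        have := (hsupp q hq).1
        rw [e] at this
        omega
  · haveI := (𝔄.C y).isPreimmersion_str y hy i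
    obtain ⟨w, hw⟩ := (𝔄.C y).mem_range_str y hy i hF hV
    obtain ⟨w0, hw0⟩ := (𝔄.C y).mem_range_str y hy i (Chart.L_mem_F hy i) (Chart.L_mem_V hy le_rfl)
    have hlow := low_mvPolynomial (X.residueField y) (SIdx n (i : ℕ) i) (δ y) _
      ((𝔄.C y).deltaCompat_str y hy i hδ) w ⟨w0, ?_, ?_⟩
    rotate_left
    · refine ((𝔄.C y).str y hy i).isEmbedding.isInducing.specializes_iff.1 ?_
      rw [hw, hw0]
      exact Chart.L_specializes hy hF
    · exact fun e => hη (hw.symm.trans ((congrArg _ e.symm).trans hw0))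
    obtain ⟨R, hRmem, hRz, hRs⟩ := exists_remainder hd ((𝔄.C y).str y hy i) (w := w) hlow
    rw [hw, hk] at hRmem
    rw [hw, hk] at hRz
    have hrange : ∀ ξ ∈ Set.range ((𝔄.C y).str y hy i), p ξ = y := by
      rintro ξ ⟨z, rfl⟩
      exact (𝔄.C y).apply_str y hy i z
    have hspec : ∀ q, R q ≠ 0 → y ⤳ p q := fun q hq => by
      obtain ⟨-, ξ, hξ, hξq⟩ := hRs q hq
      exact hrange ξ hξ ▸ hξq.map p.continuous
    refine Good.congr_sub (β' := ⇑R) ?_ (RatOn.mono hRz fun ξ hξ => ?_)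
    swap
    · show p ξ ∈ closure {y}
      rw [hrange ξ hξ]
      exact subset_closure rfl
    refine good_of_points isClosed_closure (fun q hq => specializes_iff_mem_closure.1 (hspec q hq)) fun q hq => ?_
    have hkq : δP q = k + n := by_contra fun h => hq (hRmem q h)
    by_cases hqy : p q = y
    · obtain ⟨hqr, ξ, ⟨z, rfl⟩, hξq⟩ := hRs q hq
      obtain ⟨i', hi', hF', hV'⟩ := (𝔄.C y).exists_first hy
        ((𝔄.C y).F_specializes ((𝔄.C y).str_mem_F y hy i z) hξq hqy)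
      have hne : (i : ℕ) ≠ (i' : ℕ) := fun e => by
        obtain rfl : i = i' := Fin.ext e
        exact hqr ((𝔄.C y).mem_range_str y hy i hF' hV')
      rw [hqy]
      exact hE q i' hkq (by omega) hF' hV'
    · exact hD q hkq (hspec q hq) hqy

include hdX hsp in
/-- Every point of dimension `k + n` is resolved. -/
theorem good_pt (k : ℤ) (η : P) (hk : δP η = k + n) :
    Good (𝔄.hasShift hδ hd) hd hO t ht n k (closure {p η}) (pt η) := by
  suffices H : ∀ (D : ℕ) (η : P), δP η = k + n → δ (p η) < k + D →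
      Good (𝔄.hasShift hδ hd) hd hO t ht n k (closure {p η}) (pt η) from
    H ((δ (p η) - k).toNat + 1) η hk (by omega)
  intro D
  induction D with
  | zero =>
    intro η hη hlt
    have hF : η ∈ (𝔄.C (p η)).F (p η) ((0 : Fin (n + 1)) : ℕ) := ⟨rfl, fun j _ hj => absurd hj (by simp)⟩
    have := Chart.delta_le (𝔄.mem (p η)) hδ hd hF
    simp only [Fin.val_zero] at this
    omega
  | succ D ih =>
    intro η hη hlt
    by_cases hlt' : δ (p η) < k + D
    · exact ih η hη hlt'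
    suffices H : ∀ (E : ℕ) (q : P) (i : Fin (n + 1)), δP q = k + n → n - (i : ℕ) ≤ E →
        q ∈ (𝔄.C (p η)).F (p η) (i : ℕ) → q ∈ (𝔄.C (p η)).V i →
        Good (𝔄.hasShift hδ hd) hd hO t ht n k (closure {p η}) (pt q) by
      obtain ⟨i, -, hF, hV⟩ := (𝔄.C (p η)).exists_first (𝔄.mem (p η)) (q := η) (i₀ := 0)
        ⟨rfl, fun j _ hj => absurd hj (by simp)⟩
      exact H n η i hη (Nat.sub_le _ _) hF hV
    intro E
    induction E with
    | zero =>
      intro q i hq hi hF hV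
      exact good_step 𝔄 hdX hd hδ hO ht hsp hq hF hV
        (fun q' hq' hs hne => ih q' hq' (by have := (hdX _ _ hs (Ne.symm hne)).1; omega))
        (fun q' i' hq' hii' hF' hV' => absurd hii' (by have := i'.2; omega))
    | succ E ihE =>
      intro q i hq hi hF hV
      exact good_step 𝔄 hdX hd hδ hO ht hsp hq hF hV
        (fun q' hq' hs hne => ih q' hq' (by have := (hdX _ _ hs (Ne.symm hne)).1; omega))
        (fun q' i' hq' hii' hF' hV' => ihE q' i' hq' (by omega) hF' hV')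

end Atlas

namespace Atlas

variable (𝔄 : Atlas p O n)

include 𝔄 in
/-- Spanning, for prescribed sections. -/
theorem span [QuasiCompact p] (hX : Cyc.IsSetup X δ) (hP : Cyc.IsSetup P δP) (hδ : Cyc.DeltaCompat p δP δ)
    (hO : PicF.IsInvertible O) {k : ℤ} {t : Fin (n + 1) → ℕ → (ξ : P) → Cyc.secFibre O ξ}
    (ht : ∀ i m ξ, t i m ξ ≠ 0) (β : AlgebraicCycle P ℤ) (hβ : β ∈ Cyc.Zk P δP (k + n)) :
    ∃ (α : Fin (n + 1) → AlgebraicCycle X ℤ) (γ : Fin (n + 1) → ℕ → P → ℤ) (β' : AlgebraicCycle P ℤ),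
      (∀ i : Fin (n + 1), α i ∈ Cyc.Zk X δ (k + ((i : ℕ) : ℤ))) ∧
      (∀ i : Fin (n + 1), γ i 0 = Cyc.pullFun p δP δ (n : ℤ) ⇑(α i)) ∧
      (∀ (i : Fin (n + 1)) (m : ℕ), γ i (m + 1) = Cyc.c1CapFun δP O (γ i m) (t i m)) ∧
      (∀ x, β' x = ∑ i : Fin (n + 1), γ i (i : ℕ) x) ∧ Cyc.RatEquiv δP (k + n) β β' := by
  classical
  haveI := hX.1
  haveI := hP.1
  haveI := 𝔄.flat
  have hd := hP.2.2
  have hc := 𝔄.hasShift hδ hd
  obtain ⟨u, hu, hsp⟩ := 𝔄.exists_sp (t 0 0) (ht 0 0)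
  obtain ⟨a, ha, -, hz⟩ : Good hc hd hO u hu n k Set.univ ⇑β :=
    good_of_points isClosed_univ (fun _ _ => trivial) fun q hq =>
      𝔄.good_pt hX.2.2 hd hδ hO hu hsp k q (by_contra fun h => hq (hβ q h))
  have hpull : ∀ i : Fin (n + 1), FlatClass.pullCycle hc hd (a i) ∈ Cyc.Zk P δP (k + ((i : ℕ) : ℤ) + n) :=
    fun i => FlatClass.pullCycle_mem hc hd (ha i) rfl
  choose Γ hΓ0 hΓs using fun i => Iter.exists_iter hO hd (FlatClass.pullCycle hc hd (a i)) (ht i)
  refine ⟨a, fun i m => ⇑(Γ i m), ∑ i : Fin (n + 1), Γ i (i : ℕ), ha, fun i => ?_, fun i m => hΓs i m,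
    fun x => coe_sum _ _ x, ?_⟩
  · show ⇑(Γ i 0) = _
    rw [hΓ0]
    rfl
  have hi : ∀ i : Fin (n + 1), RatOn.ZeroOn δP (k + n) Set.univ
      fun q => Ops.op hc hd hO u hu (i : ℕ) (a i) q - Γ i (i : ℕ) q := fun i => by
    have h := Iter.iter_congr hO hd (Γ := fun m => Ops.op hc hd hO u hu m (a i)) (Γ' := Γ i)
      ((hΓ0 i).symm ▸ hpull i) (l := k + ((i : ℕ) : ℤ) + n) (by rw [hΓ0]; exact Iter.refl δP _ _)
      (t := u) (t' := t i) hu (ht i) (fun m => rfl) (hΓs i) (i : ℕ)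
    rw [show k + ((i : ℕ) : ℤ) + n - ((i : ℕ) : ℤ) = k + n by ring] at h
    exact RatOn.congr (RatOn.of_ratEquivZero h) fun q => by
      rw [Function.locallyFinsuppWithin.coe_sub, Pi.sub_apply]
  refine RatOn.ratEquiv (RatOn.congr (RatOn.add hd (RatOn.mono hz (Set.subset_univ _))
    (zeroOn_sum hd Finset.univ (fun _ => 1) _ fun i _ => hi i) 1 1) fun q => ?_)
  rw [coe_sum]
  simp only [one_mul, Finset.sum_sub_distrib]
  ring

end Atlas

end

end Groth.Agent.Proj83
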