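import Groth.Agent.Proj83.Chart
import Groth.Agent.CycLib.Div
import Groth.Agent.CycLib.DivMap
import Mathlib.RingTheory.AlgebraicIndependent.Transcendental
import Mathlib.RingTheory.Length

/-!
Dimensions of the linear strata of the fibres of a projective bundle and the divisors of the coordinate sections.
-/

set_option autoImplicit false
set_option linter.style.haveILetI false

universe u

open CategoryTheory AlgebraicGeometry TopologicalSpace Opposite

namespace Groth.Agent.Proj83.Chart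

open Groth.Agent.AModX
open MvPolynomial (C X)

noncomputable section

variable {S P : Scheme.{u}} {p : P ⟶ S} {O : P.Modules} {n : ℕ} {C' : Chart p O n} {y : S} (hy : y ∈ C'.U)

/-- The maximal ideal at a point of a chart is generated by its prime. -/
theorem maximalIdeal_eq {m : Fin (n + 1)} {q : P} (hq : q ∈ C'.V m) :
    IsLocalRing.maximalIdeal (P.presheaf.stalk q) = (C'.pr m q hq).map (C'.cev m q hq) := by
  refine le_antisymm (fun x hx => ?_) Ideal.map_comap_le
  letI := (P.presheaf.germ (C'.V m) q hq).hom.toAlgebra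
  haveI : IsLocalization.AtPrime (P.presheaf.stalk q) ((C'.hV m).primeIdealOf ⟨q, hq⟩).asIdeal :=
    (C'.hV m).isLocalization_stalk ⟨q, hq⟩
  obtain ⟨⟨a, s⟩, h⟩ := IsLocalization.surj ((C'.hV m).primeIdealOf ⟨q, hq⟩).asIdeal.primeCompl x
  have hu : IsUnit (algebraMap Γ(P, C'.V m) (P.presheaf.stalk q) s.1) := IsLocalization.map_units _ s
  obtain ⟨a', rfl⟩ := (C'.coord m).surjective a
  obtain ⟨v, hv⟩ := hu.exists_right_inv
  have ha' : a' ∈ C'.pr m q hq := by
    rw [pr, Ideal.mem_comap]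
    show algebraMap Γ(P, C'.V m) (P.presheaf.stalk q) (C'.coord m a') ∈ _
    rw [← h]
    exact Ideal.mul_mem_right _ _ hx
  have : x = C'.cev m q hq a' * v := by
    show x = algebraMap Γ(P, C'.V m) (P.presheaf.stalk q) (C'.coord m a') * v
    rw [← h, mul_assoc, hv, mul_one]
  rw [this]
  exact Ideal.mul_mem_right _ _ (Ideal.mem_map_of_mem _ ha')

/-- Coordinate functions as elements of the residue field of a generisation. -/
theorem specMap_cev {m : Fin (n + 1)} {ξ q : P} (h : ξ ⤳ q) (hq : q ∈ C'.V m)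
    (a : MvPolynomial (CIdx n m) Γ(S, C'.U)) :
    Cyc.specMap q ξ h (C'.cev m q hq a) = P.residue ξ (C'.cev m ξ (h.mem_open (C'.V m).2 hq) a) :=
  congrArg (P.residue ξ).hom (C'.stalkSpecializes_cev h hq a)

theorem residue_cev_eq_zero_iff {m : Fin (n + 1)} {q : P} (hq : q ∈ C'.V m)
    (a : MvPolynomial (CIdx n m) Γ(S, C'.U)) :
    P.residue q (C'.cev m q hq a) = 0 ↔ a ∈ C'.pr m q hq :=
  IsLocalRing.residue_eq_zero_iff _

include hy in
theorem residueFieldMap_last_surjective :
    Function.Surjective (p.residueFieldMap (C'.L y hy (Fin.last n))) := by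
  set q := C'.L y hy (Fin.last n)
  have hq : q ∈ C'.V (Fin.last n) := L_mem_V hy le_rfl
  haveI : IsEmpty (SIdx n (Fin.last n : ℕ) (Fin.last n)) :=
    ⟨fun j => j.2.2 (Fin.ext (le_antisymm (Fin.le_last j.1) (by simpa using j.2.1)))⟩
  let ρ := (p.residueFieldMap q).hom
  have hC : ∀ r, P.residue q (C'.cev _ q hq (C r)) =
      ρ (S.residue (p q) (S.presheaf.germ C'.U (p q) (C'.le _ hq) r)) := fun r => by
    rw [C'.cev_C]
    exact (congrArg (fun g : S.presheaf.stalk (p q) ⟶ P.residueField q => g.hom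
      (S.presheaf.germ C'.U (p q) (C'.le _ hq) r)) (Scheme.residue_residueFieldMap p q)).symm
  have key : ∀ a, P.residue q (C'.cev _ q hq a) ∈ ρ.fieldRange := by
    intro a
    obtain ⟨r, s, hs, hrs⟩ := C'.bev_clear y hy ((MvPolynomial.isEmptyRingEquiv _ _)
      (killHom (C'.bev y hy) (Fin.last n : ℕ) (Fin.last n) a))
    have hker : C s * a - C r ∈ C'.pr _ q hq := by
      rw [pr_L hy le_rfl, RingHom.mem_ker, map_sub, map_mul, killHom_C, killHom_C, ← hrs, sub_eq_zero]
      conv_lhs => rw [MvPolynomial.eq_C_of_isEmpty (killHom (C'.bev y hy) (Fin.last n : ℕ) (Fin.last n) a)]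
      rw [← map_mul, mul_comm]
      rfl
    rw [← residue_cev_eq_zero_iff hq, map_sub, map_mul, map_sub, map_mul, sub_eq_zero] at hker
    have hs0 : P.residue q (C'.cev _ q hq (C s)) ≠ 0 := by
      rw [Ne, residue_cev_eq_zero_iff hq, pr_L hy le_rfl, RingHom.mem_ker, killHom_C,
        map_eq_zero_iff _ (MvPolynomial.C_injective _ _)]
      exact hs
    rw [eq_div_iff_mul_eq hs0 |>.2 ((mul_comm _ _).trans hker), hC, hC]
    exact ⟨_, map_div₀ ρ _ _⟩
  intro c
  obtain ⟨z, rfl⟩ := P.residue_surjective q c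
  letI := (P.presheaf.germ (C'.V (Fin.last n)) q hq).hom.toAlgebra
  haveI : IsLocalization.AtPrime (P.presheaf.stalk q) ((C'.hV (Fin.last n)).primeIdealOf ⟨q, hq⟩).asIdeal :=
    (C'.hV (Fin.last n)).isLocalization_stalk ⟨q, hq⟩
  obtain ⟨⟨a, s⟩, h⟩ := IsLocalization.surj ((C'.hV (Fin.last n)).primeIdealOf ⟨q, hq⟩).asIdeal.primeCompl z
  obtain ⟨a', rfl⟩ := (C'.coord (Fin.last n)).surjective a
  obtain ⟨s', hs'⟩ := (C'.coord (Fin.last n)).surjective s.1
  have hu : IsUnit (algebraMap Γ(P, C'.V (Fin.last n)) (P.presheaf.stalk q) s.1) := IsLocalization.map_units _ s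
  have h' := congrArg (P.residue q).hom h
  rw [map_mul] at h'
  obtain ⟨u, hu'⟩ := key a'
  obtain ⟨v, hv⟩ := key s'
  refine ⟨u / v, ?_⟩
  show ρ (u / v) = _
  rw [map_div₀, hu', hv, div_eq_iff]
  · show (P.residue q).hom (algebraMap Γ(P, C'.V (Fin.last n)) (P.presheaf.stalk q) (C'.coord (Fin.last n) a')) =
      P.residue q z * (P.residue q).hom (algebraMap Γ(P, C'.V (Fin.last n)) (P.presheaf.stalk q)
        (C'.coord (Fin.last n) s'))
    rw [hs']
    exact h'.symm
  · show (P.residue q).hom (algebraMap Γ(P, C'.V (Fin.last n)) (P.presheaf.stalk q)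
        (C'.coord (Fin.last n) s')) ≠ 0
    rw [hs']
    exact (hu.map (P.residue q).hom).ne_zero

include hy in
theorem residueDegree_last : p.residueDegree (C'.L y hy (Fin.last n)) = 1 := by
  letI := (p.residueFieldMap (C'.L y hy (Fin.last n))).hom.toAlgebra
  exact (LinearEquiv.finrank_eq (LinearEquiv.ofBijective (Algebra.linearMap (S.residueField _) (P.residueField _))
    ⟨RingHom.injective _, residueFieldMap_last_surjective hy⟩)).symm.trans (Module.finrank_self _)

variable {δ : S → ℤ} {δP : P → ℤ} (hδ : Cyc.DeltaCompat p δP δ) (hd : Cyc.IsDimFun P δP)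

include hy hδ in
theorem delta_last : δP (C'.L y hy (Fin.last n)) = δ y := by
  obtain ⟨k, hk, h⟩ := hδ (C'.L y hy (Fin.last n))
  letI := (p.residueFieldMap (C'.L y hy (Fin.last n))).hom.toAlgebra
  haveI : Algebra.IsAlgebraic (S.residueField (p (C'.L y hy (Fin.last n))))
      (P.residueField (C'.L y hy (Fin.last n))) := ⟨fun a => by
    obtain ⟨b, rfl⟩ := residueFieldMap_last_surjective hy a
    exact isAlgebraic_algebraMap b⟩
  have : k = 0 := by exact_mod_cast (hk.symm.trans trdeg_eq_zero : (k : Cardinal) = 0)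
  rw [h, this, apply_L]
  simp

include hy in
theorem L_specializes_succ {i i' : Fin (n + 1)} (hi : (i' : ℕ) = (i : ℕ) + 1) :
    C'.L y hy i ⤳ C'.L y hy i' := by
  refine L_specializes hy ⟨apply_L hy i', fun j hq hj => ?_⟩
  exact (L_mem_F hy i').2 j hq (by omega)

include hy in
theorem L_ne {i i' : Fin (n + 1)} (hi : (i : ℕ) < (i' : ℕ)) : C'.L y hy i ≠ C'.L y hy i' := fun e => by
  have hq : p (C'.L y hy i') ∈ C'.U := L_mem_U hy i'
  have h1 : C'.xs i (C'.L y hy i') hq = 0 := (xs_L hy).2 hi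
  have key : ∀ (a : P) (ha : p a ∈ C'.U), a = C'.L y hy i' → C'.xs i a ha = 0 := by
    rintro a ha rfl; exact h1
  exact lt_irrefl _ ((xs_L hy).1 (key _ (L_mem_U hy i) e))

include hy in
theorem L_immediate {i i' : Fin (n + 1)} (hi : (i' : ℕ) = (i : ℕ) + 1) (z : P) (h1 : C'.L y hy i ⤳ z)
    (h2 : z ⤳ C'.L y hy i') : z = C'.L y hy i ∨ z = C'.L y hy i' := by
  have hz : p z = y := by
    have a := h1.map p.continuous
    have b := h2.map p.continuous
    rw [apply_L hy] at a b
    exact (b.antisymm a).eq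
  have hzV : z ∈ C'.V i' := h2.mem_open (C'.V i').2 (L_mem_V hy le_rfl)
  have hlo : RingHom.ker (killHom (C'.bev y hy) (i : ℕ) i') ≤ C'.pr i' z hzV :=
    (pr_L hy (by omega)).symm.le.trans (C'.pr_le_of_specializes h1 hzV)
  have hhi : C'.pr i' z hzV ≤ RingHom.ker (killHom (C'.bev y hy) (i' : ℕ) i') :=
    (C'.pr_le_of_specializes h2 (L_mem_V hy le_rfl)).trans (pr_L hy le_rfl).le
  obtain ⟨Q, hQ, hQP⟩ := exists_prime_killHom (C'.bev y hy) (C'.bev_clear y hy) (C'.pr i' z hzV) hlo
    (fun s hs hmem => hs (by subst hz; exact (C'.C_mem_pr hzV s).1 hmem))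
  have hii : i ≠ i' := fun e => by rw [e] at hi; omega
  have hX : killHom (C'.bev y hy) (i : ℕ) i' (coordT _ i' i) = X ⟨i, le_rfl, hii⟩ := by
    rw [coordT_ne hii, killHom_X, dif_pos le_rfl]
  have hker : RingHom.ker (killHom (C'.bev y hy) (i' : ℕ) i') =
      Ideal.span {coordT _ i' i} ⊔ RingHom.ker (killHom (C'.bev y hy) (i : ℕ) i') := by
    rw [ker_killHom _ le_rfl, ker_killHom _ (by omega), hi, killSet_succ, Ideal.span_insert]
    exact sup_left_comm _ _ _
  have hQle : Q ≤ Ideal.span {X ⟨i, le_rfl, hii⟩} := fun x hx => by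
    obtain ⟨r, s, hs, hrs⟩ := exists_clear (C'.bev y hy) (C'.bev_clear y hy) (i : ℕ) i' x
    have hr : r ∈ C'.pr i' z hzV := by
      rw [← hQP, Ideal.mem_comap, ← hrs]
      exact Q.mul_mem_left _ hx
    obtain ⟨u, hu, v, hv, rfl⟩ := Submodule.mem_sup.1 (hker ▸ hhi hr)
    obtain ⟨w, rfl⟩ := Ideal.mem_span_singleton'.1 hu
    rw [map_add, map_mul, RingHom.mem_ker.1 hv, add_zero, hX] at hrs
    refine (Ideal.unit_mul_mem_iff_mem _ ((isUnit_iff_ne_zero.2 hs).map C)).1 ?_
    exact Ideal.mem_span_singleton'.2 ⟨_, hrs.symm⟩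
  by_cases hXQ : X ⟨i, le_rfl, hii⟩ ∈ Q
  · refine Or.inr (C'.pr_injective hzV (L_mem_V hy le_rfl) (le_antisymm ?_ ?_))
    · exact hhi.trans (pr_L hy le_rfl).symm.le
    · rw [pr_L hy le_rfl, hker, sup_le_iff, Ideal.span_le, Set.singleton_subset_iff]
      refine ⟨?_, hlo⟩
      show coordT _ i' i ∈ C'.pr i' z hzV
      rw [← hQP, Ideal.mem_comap, hX]
      exact hXQ
  · refine Or.inl (C'.pr_injective hzV (L_mem_V hy (by omega)) ?_)
    rw [pr_L hy (by omega), ← hQP, eq_bot_of_le_span_X _ Q hQle hXQ]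
    rfl

include hy hδ hd in
/-- The dimension of the strata. -/
theorem delta_L (i : Fin (n + 1)) : δP (C'.L y hy i) = δ y + (n : ℤ) - (i : ℕ) := by
  obtain ⟨d, hd'⟩ : ∃ d, (i : ℕ) + d = n := ⟨n - i, by omega⟩
  induction d generalizing i with
  | zero =>
    obtain rfl : i = Fin.last n := Fin.ext (by simpa using hd')
    rw [delta_last hy hδ, Fin.val_last]
    ring
  | succ d ih =>
    let i' : Fin (n + 1) := ⟨(i : ℕ) + 1, by omega⟩
    have h := (hd _ _ (L_specializes_succ hy (i := i) (i' := i') rfl) (L_ne hy (Nat.lt_succ_self _))).2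
      fun z h1 h2 => L_immediate hy rfl z h1 h2
    rw [h, ih i' (by simp [i']; omega)]
    simp [i']
    ring

include hy hδ hd in
theorem delta_le {i : Fin (n + 1)} {q : P} (hq : q ∈ C'.F y (i : ℕ)) : δP q ≤ δ y + (n : ℤ) - (i : ℕ) :=
  delta_L hy hδ hd i ▸ CycLib.delta_le hd (L_specializes hy hq)

include hy hδ hd in
theorem eq_L_of_le {i : Fin (n + 1)} {q : P} (hq : q ∈ C'.F y (i : ℕ))
    (h : δ y + (n : ℤ) - (i : ℕ) ≤ δP q) : q = C'.L y hy i :=
  (CycLib.eq_of_delta_le hd (L_specializes hy hq) ((delta_L hy hδ hd i).trans_le h)).symm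

include hy in
/-- The fibre is reduced at its generic point. -/
theorem map_maximalIdeal_L_zero :
    (IsLocalRing.maximalIdeal (S.presheaf.stalk (p (C'.L y hy 0)))).map (p.stalkMap (C'.L y hy 0)).hom =
      IsLocalRing.maximalIdeal (P.presheaf.stalk (C'.L y hy 0)) := by
  refine le_antisymm (Ideal.map_le_iff_le_comap.2 fun a ha => ?_) ?_
  · rw [Ideal.mem_comap]
    exact map_nonunit (p.stalkMap (C'.L y hy 0)).hom a ha
  · have hq := L_mem_V hy (i := 0) (m := 0) le_rfl
    rw [maximalIdeal_eq hq, Ideal.map_le_iff_le_comap, pr_L hy le_rfl, ker_killHom _ le_rfl, sup_le_iff,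
      Ideal.map_le_iff_le_comap, Ideal.span_le]
    refine ⟨fun r hr => ?_, ?_⟩
    · rw [Ideal.mem_comap, Ideal.mem_comap, cev_C]
      refine Ideal.mem_map_of_mem _ ?_
      have hr' : C r ∈ C'.pr 0 _ hq := by
        rw [pr_L hy le_rfl, RingHom.mem_ker, killHom_C, RingHom.mem_ker.1 hr, map_zero]
      exact (IsLocalRing.residue_eq_zero_iff _).1 ((C'.C_mem_pr hq r).1 hr')
    · rintro _ ⟨j, hj, rfl⟩
      exact absurd hj (by simp)

include hy hδ hd in
/-- Flat pull-back over a point of the base. -/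
theorem pullFun_apply {α : S → ℤ} {q : P} (hq : p q = y) [Decidable (q = C'.L y hy 0)] :
    Cyc.pullFun p δP δ (n : ℤ) α q = if q = C'.L y hy 0 then α y else 0 := by
  split_ifs with h
  · subst h
    rw [Cyc.pullFun, if_pos (by rw [delta_L hy hδ hd, apply_L]; simp), map_maximalIdeal_L_zero hy, apply_L]
    haveI : IsSimpleModule (P.presheaf.stalk (C'.L y hy 0))
        (P.presheaf.stalk (C'.L y hy 0) ⧸ IsLocalRing.maximalIdeal (P.presheaf.stalk (C'.L y hy 0))) :=
      isSimpleModule_iff_isCoatom.2 (Ideal.IsMaximal.out (I := IsLocalRing.maximalIdeal _))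
    rw [Module.length_eq_one]
    simp
  · rw [Cyc.pullFun, if_neg]
    intro hδq
    refine h (eq_L_of_le hy hδ hd (i := 0) ⟨hq, fun j _ hj => absurd hj (by simp)⟩ ?_)
    rw [hδq, hq]
    simp

include hy hδ hd in
/-- The divisor of `x_i` on the `i`-th stratum. -/
theorem secDivFun_L [IsLocallyNoetherian P] (hO : PicF.IsInvertible O) (i : Fin (n + 1)) {q : P} (hq : p q = y)
    [Decidable (∃ i' : Fin (n + 1), (i' : ℕ) = (i : ℕ) + 1 ∧ q = C'.L y hy i')] :
    Cyc.secDivFun δP O (C'.L y hy i) (C'.xs i (C'.L y hy i) (L_mem_U hy i)) q =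
      if ∃ i' : Fin (n + 1), (i' : ℕ) = (i : ℕ) + 1 ∧ q = C'.L y hy i' then 1 else 0 := by
  have hqU : p q ∈ C'.U := hq.symm ▸ hy
  by_cases hsp : C'.L y hy i ⤳ q ∧ δP q + 1 = δP (C'.L y hy i)
  swap
  · rw [Cyc.secDivFun, dif_neg hsp, if_neg]
    rintro ⟨i', hi', rfl⟩
    refine hsp ⟨L_specializes_succ hy hi', ?_⟩
    rw [delta_L hy hδ hd, delta_L hy hδ hd, hi']
    push_cast
    ring
  obtain ⟨hsp, hδq⟩ := hsp
  have hF := mem_F_of_specializes hy hsp hq
  by_cases hxi : C'.xs i q hqU = 0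
  · have hFs : q ∈ C'.F y ((i : ℕ) + 1) := C'.mem_F_succ hF fun _ => hxi
    obtain ⟨hi1⟩ : Nonempty ((i : ℕ) + 1 < n + 1) := by
      refine ⟨lt_of_le_of_ne i.2 fun e => ?_⟩
      exact C'.F_last (y := y) (e ▸ hFs) hqU
    let i' : Fin (n + 1) := ⟨(i : ℕ) + 1, hi1⟩
    have hqL : q = C'.L y hy i' := eq_L_of_le hy hδ hd (i := i') hFs (by
      rw [delta_L hy hδ hd] at hδq
      simp only [i']
      push_cast
      omega)
    rw [if_pos ⟨i', rfl, hqL⟩]
    subst hqL
    have hV : C'.L y hy i' ∈ C'.V i' := L_mem_V hy le_rfl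
    have hξV : C'.L y hy i ∈ C'.V i' := hsp.mem_open (C'.V i').2 hV
    set b := C'.cev i' (C'.L y hy i') hV (coordT _ i' i) with hb
    have hker : RingHom.ker (killHom (C'.bev y hy) (i : ℕ) i') ≤
        (RingHom.ker (Cyc.specMap _ _ hsp)).comap (C'.cev i' (C'.L y hy i') hV) := fun a ha => by
      rw [Ideal.mem_comap, RingHom.mem_ker, specMap_cev hsp hV]
      exact (residue_cev_eq_zero_iff _ a).2 ((pr_L hy (by simp [i'])).ge ha)
    have hne : Cyc.specMap _ _ hsp b ≠ 0 := by
      rw [hb, specMap_cev hsp hV, Ne, residue_cev_eq_zero_iff]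
      intro h
      have := (xs_L (C' := C') hy (i := i) (j := i)).1 ((C'.xs_eq_zero_iff hξV i).2 h)
      exact lt_irrefl _ this
    rw [H23.RatSec.secDivFun_eq hO hd hsp (t := O.presheaf.germ (p ⁻¹ᵁ C'.U) _ (C'.le i' hV) (C'.x i'))
      (C'.isGen_x hV).1 (φ := P.presheaf.stalkSpecializes hsp b) ?_ hne]
    · rw [show P.residue _ (P.presheaf.stalkSpecializes hsp b) = Cyc.specMap _ _ hsp b from rfl,
        CycLib.divFun_eq δP _ hsp hδq, ← CycLib.algebraMap_locQuot_mk]
      have ha : Ideal.Quotient.mk (RingHom.ker (Cyc.specMap _ _ hsp)) b ≠ 0 := fun h =>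
        hne (RingHom.mem_ker.1 (Ideal.Quotient.eq_zero_iff_mem.1 h))
      rw [CycLib.ordAt_algebraMap hd hsp hδq ha]
      have hmax : Ideal.span {Ideal.Quotient.mk (RingHom.ker (Cyc.specMap _ _ hsp)) b} =
          (IsLocalRing.maximalIdeal (P.presheaf.stalk (C'.L y hy i'))).map
            (Ideal.Quotient.mk (RingHom.ker (Cyc.specMap _ _ hsp))) := by
        refine le_antisymm ?_ ?_
        · rw [Ideal.span_le, Set.singleton_subset_iff]
          refine Ideal.mem_map_of_mem _ ?_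
          have := (C'.xs_eq_zero_iff hV i).1 ((xs_L (C' := C') hy (i := i') (j := i)).2 (by simp [i']))
          exact this
        · rw [maximalIdeal_eq hV, Ideal.map_map, Ideal.map_le_iff_le_comap, pr_L hy le_rfl,
            ker_killHom _ le_rfl, show ((i' : Fin (n + 1)) : ℕ) = (i : ℕ) + 1 from rfl, killSet_succ,
            Ideal.span_insert, sup_left_comm, ← ker_killHom _ (show (i : ℕ) ≤ (i' : ℕ) by simp [i']), sup_le_iff]
          refine ⟨?_, fun a ha => ?_⟩
          · rw [Ideal.span_le, Set.singleton_subset_iff]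
            exact Ideal.subset_span rfl
          · rw [Ideal.mem_comap, RingHom.comp_apply, Ideal.Quotient.eq_zero_iff_mem.2 (Ideal.mem_comap.1 (hker ha))]
            exact Ideal.zero_mem _
      haveI : IsSimpleModule (Cyc.LocQuot _ _ hsp)
          (Cyc.LocQuot _ _ hsp ⧸ Ideal.span {Ideal.Quotient.mk (RingHom.ker (Cyc.specMap _ _ hsp)) b}) := by
        refine isSimpleModule_iff_isCoatom.2 (Ideal.IsMaximal.out (I := _) (self := ?_))
        rw [hmax]
        refine (Ideal.map_eq_top_or_isMaximal_of_surjective _ Ideal.Quotient.mk_surjective inferInstance).resolve_left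
          fun e => ?_
        have e' := congrArg (Ideal.comap (Ideal.Quotient.mk (RingHom.ker (Cyc.specMap _ _ hsp)))) e
        rw [Ideal.comap_map_of_surjective _ Ideal.Quotient.mk_surjective, Ideal.comap_top, ← RingHom.ker_eq_comap_bot,
          Ideal.mk_ker, sup_eq_left.2 (IsLocalRing.le_maximalIdeal (RingHom.ker_ne_top _))] at e'
        exact (IsLocalRing.maximalIdeal.isMaximal _).ne_top e'
      rw [Ring.ord, Module.length_eq_one]
      rfl
    · show H23.RatSec.cls O _ _ = _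
      rw [← H23.RatSec.cls_smul, ← H23.ZeroSec.stalkSpecializes_smul, hb, ← C'.germ_x hV i,
        TopCat.Presheaf.germ_stalkSpecializes_apply]
  · have hV := C'.mem_V hxi
    rw [if_neg]
    swap
    · rintro ⟨i', hi', rfl⟩
      exact hxi ((xs_L hy).2 (by omega))
    rw [H23.RatSec.secDivFun_eq hO hd hsp (t := O.presheaf.germ (p ⁻¹ᵁ C'.U) q (C'.le i hV) (C'.x i))
      (C'.isGen_x hV).1 (φ := 1) ?_ (by rw [map_one]; exact one_ne_zero)]
    · rw [map_one, CycLib.divFun_eq δP _ hsp hδq, CycLib.ordAt_one hd hsp hδq]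
    · rw [one_smul, TopCat.Presheaf.germ_stalkSpecializes_apply]

end

end Groth.Agent.Proj83.Chart
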